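import Groth.Agent.ShriekLib.Compose
/-!
Direct image with proper support along a proper morphism is the direct image.
-/

set_option autoImplicit false
set_option backward.isDefEq.respectTransparency false
set_option backward.isDefEq.respectTransparency.types false

universe u

open CategoryTheory CategoryTheory.Limits AlgebraicGeometry Opposite

namespace Groth.Agent.ShriekLib

variable {X Y : Scheme.{u}} (f : X ⟶ Y)

/-- The inclusion into the direct image. -/
noncomputable def lShriekι [LocallyOfFiniteType f] : lShriek f ⟶ EtCoh.push f where
  app F := ⟨EtShriek.lowerShriekPreι f F⟩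
  naturality {F G} a := by
    apply Sheaf.hom_ext
    ext V s
    rfl

theorem mono_lShriekι [LocallyOfFiniteType f] (F : EtCoh.Ab X) : Mono ((lShriekι f).app F) := by
  refine (sheafToPresheaf _ _).mono_of_mono_map ?_
  haveI : ∀ V, Mono ((EtShriek.lowerShriekPreι f F).app V) := fun V => by
    rw [AddCommGrpCat.mono_iff_injective]
    exact Subtype.val_injective
  exact @NatTrans.mono_of_mono_app _ _ _ _ _ _ (EtShriek.lowerShriekPreι f F) inferInstance

theorem isIso_lShriekι [IsProper f] : IsIso (lShriekι f) := by
  haveI : ∀ F, IsIso ((lShriekι f).app F) := fun F => by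
    haveI : IsIso ((sheafToPresheaf _ _).map ((lShriekι f).app F)) := by
      haveI : ∀ V, IsIso ((EtShriek.lowerShriekPreι f F).app V) := fun V => by
        rw [ConcreteCategory.isIso_iff_bijective]
        refine ⟨Subtype.val_injective, fun s => ⟨⟨s, ?_⟩, rfl⟩⟩
        refine (mem_shriekSubgroup_iff F f V.unop s).2 ⟨EtPtsLib.isClosed_sectSupp F _ _, ?_⟩
        haveI : IsProper (EtShriek.prV f V.unop) :=
          MorphismProperty.of_isPullback (P := @IsProper) (IsPullback.of_hasPullback V.unop.hom f).flip ‹IsProper f›
        infer_instance
      exact NatIso.isIso_of_isIso_app (EtShriek.lowerShriekPreι f F)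
    exact isIso_of_reflects_iso _ (sheafToPresheaf _ _)
  exact NatIso.isIso_of_isIso_app _

/-- For a proper morphism sections all have proper support. -/
noncomputable def lowerShriekPushIso [IsProper f] : EtShriek.lowerShriek f ≅ EtCoh.push f :=
  haveI := isIso_lShriekι f
  (lShriekIso f).symm ≪≫ asIso (lShriekι f)

end Groth.Agent.ShriekLib
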