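import Groth.Agent.ShriekLib.Stalk
import Groth.Agent.EtPtsLib.ExtZeroStalk
import Groth.Agent.EtPtsLib.OpenShriek
/-!
Extension by zero along a separated étale morphism is the direct image with proper support.
-/

set_option autoImplicit false
set_option backward.isDefEq.respectTransparency false
set_option backward.isDefEq.respectTransparency.types false

universe u

open CategoryTheory CategoryTheory.Limits AlgebraicGeometry Opposite GrothendieckTopology

namespace Groth.Agent.ShriekLib

open EtPtsLib

variable {U X : Scheme.{u}} (j : U ⟶ X) [AlgebraicGeometry.Etale j]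

/-- The graph of an étale scheme over `U` inside its base change. -/
noncomputable def graph (V : U.Etale) : V ⟶ (EtCoh.bc j).obj ((EtShriek.compEtale j).obj V) :=
  MorphismProperty.Over.homMk (pullback.lift (𝟙 V.left) V.hom (by exact Category.id_comp _)) (pullback.lift_snd _ _ _)

theorem graph_fst (V : U.Etale) : (graph j V).left ≫ EtShriek.prV j ((EtShriek.compEtale j).obj V) = 𝟙 _ :=
  pullback.lift_fst _ _ _

theorem graph_naturality {V W : U.Etale} (φ : W ⟶ V) :
    graph j W ≫ (EtCoh.bc j).map ((EtShriek.compEtale j).map φ) = φ ≫ graph j V := by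
  refine bc_hom_ext j ?_
  refine (Category.assoc _ _ _).trans ((congrArg ((graph j W).left ≫ ·) (bcFst_map j _)).trans ?_)
  refine ((Category.assoc _ _ _).symm.trans (congrArg (· ≫ φ.left) (graph_fst j W))).trans ?_
  refine (Category.id_comp _).trans (Eq.trans ?_ (Category.assoc _ _ _).symm)
  exact ((congrArg (φ.left ≫ ·) (graph_fst j V)).trans (Category.comp_id _)).symm

instance isOpenImmersion_graph (V : U.Etale) : IsOpenImmersion (graph j V).left := by
  haveI := etale_left (graph j V)
  haveI : Mono (graph j V).left := mono_of_mono_fac (graph_fst j V)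
  exact IsOpenImmersion.of_flat_of_mono _

theorem eq_graph_of_factor {V : U.Etale} {Ω : Type u} [Field Ω] [IsSepClosed Ω] {ζ : Spec (CommRingCat.of Ω) ⟶ U}
    {y : (Scheme.pointSmallEtale ζ).fiber.obj ((EtCoh.bc j).obj ((EtShriek.compEtale j).obj V))}
    (h : liftHom ζ y default ∈ Set.range (graph j V).left) :
    ∃ a : (Scheme.pointSmallEtale ζ).fiber.obj V, (Scheme.pointSmallEtale ζ).fiber.map (graph j V) a = y :=
  let ⟨v, hv⟩ := h
  exists_fiber_map_eq ζ (graph j V) y v hv

variable [IsSeparated j]

instance isClosedImmersion_graph (V : U.Etale) : IsClosedImmersion (graph j V).left := by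
  haveI : IsSeparated (EtShriek.prV j ((EtShriek.compEtale j).obj V)) :=
    MorphismProperty.of_isPullback (IsPullback.of_hasPullback ((EtShriek.compEtale j).obj V).hom j).flip
      ‹IsSeparated j›
  haveI : IsClosedImmersion ((graph j V).left ≫ EtShriek.prV j ((EtShriek.compEtale j).obj V)) := by
    rw [graph_fst]; infer_instance
  exact IsClosedImmersion.of_comp _ (EtShriek.prV j ((EtShriek.compEtale j).obj V))

variable (F : EtCoh.Ab U)

/-- The extension by zero of a section from the graph. -/
def IsGraphExt {V : U.Etale} (t : EtCoh.sect F V)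
    (s : EtCoh.sect F ((EtCoh.bc j).obj ((EtShriek.compEtale j).obj V))) : Prop :=
  F.obj.map (graph j V).op s = t ∧ EtShriek.sectSupp F _ s ⊆ Set.range (graph j V).left

theorem IsGraphExt.unique {V : U.Etale} {t : EtCoh.sect F V}
    {s s' : EtCoh.sect F ((EtCoh.bc j).obj ((EtShriek.compEtale j).obj V))} (hs : IsGraphExt j F t s)
    (hs' : IsGraphExt j F t s') : s = s' := by
  refine sect_ext F _ _ _ fun Ω _ _ ζ y => ?_
  by_cases h : liftHom ζ y default ∈ Set.range (graph j V).left
  · obtain ⟨a, rfl⟩ := eq_graph_of_factor j h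
    rw [germ, germ, ← (Scheme.pointSmallEtale ζ).toPresheafFiber_w_apply (graph j V) a F.obj s,
      ← (Scheme.pointSmallEtale ζ).toPresheafFiber_w_apply (graph j V) a F.obj s', hs.1, hs'.1]
  · rw [(germ_eq_zero_iff ζ F y s).2 fun hh => h (hs.2 hh), (germ_eq_zero_iff ζ F y s').2 fun hh => h (hs'.2 hh)]

theorem exists_graphExt {V : U.Etale} (t : EtCoh.sect F V) :
    ∃ s, IsGraphExt j F t s := by
  classical
  let B := (EtCoh.bc j).obj ((EtShriek.compEtale j).obj V)
  let R : B.left.Opens := (graph j V).left.opensRange
  have hR : IsClosed (R : Set B.left) := (graph j V).left.isClosedEmbedding.isClosed_range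
  let c : V ⟶ openSub B R := MorphismProperty.Over.homMk
    (IsOpenImmersion.lift R.ι (graph j V).left (by rintro _ ⟨v, rfl⟩; exact ⟨⟨_, v, rfl⟩, rfl⟩))
    (by
      change _ ≫ R.ι ≫ B.hom = V.hom
      rw [IsOpenImmersion.lift_fac_assoc]
      exact MorphismProperty.Over.w (graph j V))
  have hc : c.left ≫ R.ι = (graph j V).left := IsOpenImmersion.lift_fac _ _ _
  haveI : IsIso c.left := by
    haveI : IsOpenImmersion (c.left ≫ R.ι) := by rw [hc]; infer_instance
    haveI : IsOpenImmersion c.left := IsOpenImmersion.of_comp _ R.ι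
    rw [isIso_iff_isOpenImmersion_and_surjective]
    refine ⟨inferInstance, ⟨fun r => ?_⟩⟩
    obtain ⟨v, hv⟩ := r.2
    refine ⟨v, R.ι.isOpenEmbedding.injective ?_⟩
    refine (Scheme.Hom.comp_apply _ _ _).symm.trans ((congrArg (fun m => m v) hc).trans ?_)
    exact hv
  let d : openSub B R ⟶ V := MorphismProperty.Over.homMk (inv c.left) (by
    rw [IsIso.inv_comp_eq]; exact (MorphismProperty.Over.w c).symm)
  have hcd : c ≫ d = 𝟙 V := MorphismProperty.Over.Hom.ext (IsIso.hom_inv_id c.left)
  let parts : Bool → B.left.Opens := fun b => cond b R ⟨(R : Set B.left)ᶜ, hR.isOpen_compl⟩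
  obtain ⟨s, hs⟩ := exists_glue (⟨F.obj ⋙ forget AddCommGrpCat.{u + 1},
      ((sheafCompose U.smallEtaleTopology (forget AddCommGrpCat.{u + 1})).obj F).2⟩ : Sheaf _ (Type (u + 1))) B parts
    (fun a b hab => by
      rw [← TopologicalSpace.Opens.coe_disjoint]
      cases a <;> cases b <;> first | exact absurd rfl hab | exact disjoint_compl_left | exact disjoint_compl_right)
    (fun x => by
      by_cases hx : x ∈ R
      · exact ⟨true, hx⟩
      · exact ⟨false, hx⟩)
    (fun b => match b with
      | true => F.obj.map d.op t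
      | false => (0 : EtCoh.sect F (openSub B (parts false))))
  have hs1 : F.obj.map (openIncl B R).op s = F.obj.map d.op t := hs true
  have hs0 : F.obj.map (openIncl B (parts false)).op s = 0 := hs false
  refine ⟨s, ?_, fun b hb => ?_⟩
  · have e : graph j V = c ≫ openIncl B R := MorphismProperty.Over.Hom.ext hc.symm
    change F.obj.map (graph j V).op s = t
    rw [e, op_comp, Functor.map_comp, ConcreteCategory.comp_apply, hs1, ← ConcreteCategory.comp_apply,
      ← Functor.map_comp, ← op_comp, hcd, op_id, CategoryTheory.Functor.map_id]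
    rfl
  · by_contra hn
    exact hb _ (openIncl B (parts false)) ⟨(⟨b, hn⟩ : (parts false).toScheme), rfl⟩ hs0

/-- The extension by zero of a section from the graph. -/
noncomputable def graphExt {V : U.Etale} (t : EtCoh.sect F V) :
    EtCoh.sect F ((EtCoh.bc j).obj ((EtShriek.compEtale j).obj V)) :=
  (exists_graphExt j F t).choose

theorem isGraphExt {V : U.Etale} (t : EtCoh.sect F V) : IsGraphExt j F t (graphExt j F t) :=
  (exists_graphExt j F t).choose_spec

theorem graphExt_mem {V : U.Etale} (t : EtCoh.sect F V) :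
    graphExt j F t ∈ EtShriek.shriekSubgroup j F ((EtShriek.compEtale j).obj V) := by
  haveI : LocallyOfFiniteType j := inferInstance
  haveI := lft_prV j ((EtShriek.compEtale j).obj V)
  refine (mem_shriekSubgroup_iff F j _ _).2 (ClSubLib.isProperOver_subset _ ?_ (isClosed_sectSupp F _ _)
    (isGraphExt j F t).2)
  refine (ClSubLib.isProperOver_iff _ (graph j V).left rfl).2 ?_
  rw [graph_fst]; infer_instance

theorem graphExt_add {V : U.Etale} (t t' : EtCoh.sect F V) :
    graphExt j F (t + t') = graphExt j F t + graphExt j F t' :=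
  (isGraphExt j F (t + t')).unique j F
    ⟨by rw [map_add, (isGraphExt j F t).1, (isGraphExt j F t').1],
      (sectSupp_add_subset F _ _ _).trans (Set.union_subset (isGraphExt j F t).2 (isGraphExt j F t').2)⟩

theorem graphExt_map {V W : U.Etale} (φ : W ⟶ V) (t : EtCoh.sect F V) :
    F.obj.map ((EtCoh.bc j).map ((EtShriek.compEtale j).map φ)).op (graphExt j F t) =
      graphExt j F (F.obj.map φ.op t) := by
  refine IsGraphExt.unique j F ⟨?_, fun x hx => ?_⟩ (isGraphExt j F _)
  · rw [← ConcreteCategory.comp_apply, ← Functor.map_comp, ← op_comp, graph_naturality, op_comp, Functor.map_comp,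
      ConcreteCategory.comp_apply, (isGraphExt j F t).1]
  · rw [sectSupp_map] at hx
    have hx' := (isGraphExt j F t).2 hx
    obtain ⟨y, hy⟩ := exists_lift_geomPt x
    rw [← hy] at hx' ⊢
    rw [← Scheme.Hom.comp_apply, ← liftHom_map] at hx'
    obtain ⟨a, ha⟩ := eq_graph_of_factor j hx'
    have h1 : liftHom _ y ≫ EtShriek.prV j ((EtShriek.compEtale j).obj W) ≫ φ.left = liftHom _ a := by
      have := congrArg (fun m => liftHom _ m ≫ EtShriek.prV j ((EtShriek.compEtale j).obj V)) ha
      simp only [liftHom_map, Category.assoc] at this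
      rw [graph_fst, Category.comp_id] at this
      refine Eq.trans ?_ this.symm
      exact congrArg (liftHom _ y ≫ ·) (bcFst_map j ((EtShriek.compEtale j).map φ)).symm
    let b : (Scheme.pointSmallEtale (geomPt (((EtCoh.bc j).obj ((EtShriek.compEtale j).obj W)).hom x))).fiber.obj W :=
      Over.homMk (liftHom _ y ≫ EtShriek.prV j ((EtShriek.compEtale j).obj W)) (by
        change (liftHom _ y ≫ EtShriek.prV j ((EtShriek.compEtale j).obj W)) ≫ W.hom = _
        rw [← MorphismProperty.Over.w φ, Category.assoc, ← Category.assoc _ φ.left,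
          ← Category.assoc (liftHom _ y), h1]
        exact liftHom_comp _ a)
    have e : (Scheme.pointSmallEtale _).fiber.map (graph j W) b = y := fiber_bc_ext j _ (by
      rw [liftHom_map, Category.assoc]
      exact (congrArg (liftHom _ b ≫ ·) (graph_fst j W)).trans (Category.comp_id _))
    rw [← e, liftHom_map]
    exact ⟨liftHom _ b default, (Scheme.Hom.comp_apply _ _ _).symm⟩

theorem graphExt_app {G : EtCoh.Ab U} (a : F ⟶ G) {V : U.Etale} (t : EtCoh.sect F V) :
    a.hom.app _ (graphExt j F t) = graphExt j G (a.hom.app _ t) := by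
  refine IsGraphExt.unique j G ⟨?_, fun x hx => (isGraphExt j F t).2 (EtShriek.sectSupp_map_subset a _ _ hx)⟩
    (isGraphExt j G _)
  rw [← NatTrans.naturality_apply, (isGraphExt j F t).1]

variable [EtShriek.JCont j]

/-- A section as a section with proper support of the graph. -/
noncomputable def graphPre (V : U.Etale) :
    F.obj.obj (op V) ⟶ (EtShriek.lowerShriekPre j F).obj (op ((EtShriek.compEtale j).obj V)) :=
  AddCommGrpCat.ofHom (AddMonoidHom.mk' (fun t => ⟨graphExt j F t, graphExt_mem j F t⟩)
    fun t t' => Subtype.ext (graphExt_add j F t t'))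

/-- The map to the restriction of the direct image with proper support. -/
noncomputable def toRestr : 𝟭 (EtCoh.Ab U) ⟶ EtShriek.lowerShriek j ⋙ EtShriek.restrAlong j where
  app F :=
    ⟨{ app := fun V => graphPre j F V.unop ≫
          (CategoryTheory.toSheafify X.smallEtaleTopology (EtShriek.lowerShriekPre j F)).app (op ((EtShriek.compEtale j).obj V.unop))
       naturality := fun V W φ => by
        have h : F.obj.map φ ≫ graphPre j F W.unop =
            graphPre j F V.unop ≫ (EtShriek.lowerShriekPre j F).map ((EtShriek.compEtale j).map φ.unop).op := by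
          ext t
          exact Subtype.ext (graphExt_map j F φ.unop t).symm
        erw [reassoc_of% h]; rw [Category.assoc]
        erw [(CategoryTheory.toSheafify X.smallEtaleTopology (EtShriek.lowerShriekPre j F)).naturality]
        rfl }⟩
  naturality {F G} a := by
    refine ObjectProperty.hom_ext _ (NatTrans.ext (funext fun V => ?_))
    have h : a.hom.app V ≫ graphPre j G V.unop = graphPre j F V.unop ≫
        ((EtShriek.lowerShriekPreFunctor j).map a).app (op ((EtShriek.compEtale j).obj V.unop)) := by
      ext t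
      exact Subtype.ext (graphExt_app j F a t).symm
    change a.hom.app V ≫ graphPre j G V.unop ≫ _ = (graphPre j F V.unop ≫ _) ≫ _
    erw [reassoc_of% h]; rw [Category.assoc]
    refine congrArg (_ ≫ ·) ?_
    exact congrArg (fun m => m.app (op ((EtShriek.compEtale j).obj V.unop)))
      (CategoryTheory.toSheafify_naturality X.smallEtaleTopology ((EtShriek.lowerShriekPreFunctor j).map a))

/-- The comparison map. -/
noncomputable def extZeroToLowerShriek : EtShriek.extZero j ⟶ EtShriek.lowerShriek j where
  app F := ((EtShriek.extZeroAdj j).homEquiv _ _).symm ((toRestr j).app F)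
  naturality {F G} a := by
    rw [← Adjunction.homEquiv_naturality_left_symm, ← Adjunction.homEquiv_naturality_right_symm]
    exact congrArg _ ((toRestr j).naturality a)

variable [LocallyQuasiFinite j]

theorem ιStalk_comparison {Ω : Type u} [Field Ω] [IsAlgClosed Ω] (ξ : Spec (CommRingCat.of Ω) ⟶ X) (u : PtsOver j ξ) :
    ιStalk F u ≫ (EtCoh.stalk ξ).map ((extZeroToLowerShriek j).app F) ≫
      ((Scheme.pointSmallEtale ξ).presheafToSheafCompSheafFiberIso AddCommGrpCat.{u + 1}).hom.app
        (EtShriek.lowerShriekPre j F) = single j ξ u F := by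
  let L := (Scheme.pointSmallEtale ξ).presheafToSheafCompSheafFiberIso AddCommGrpCat.{u + 1}
  refine (Scheme.pointSmallEtale u.1).presheafFiber_hom_ext fun V l => ?_
  rw [← Category.assoc]
  erw [toPresheafFiber_ιStalk]
  rw [Category.assoc]
  erw [(Scheme.pointSmallEtale ξ).toPresheafFiber_naturality_assoc]
  have hadj : ((EtShriek.extZeroAdj j).unit.app F).hom.app (op V) ≫
      ((extZeroToLowerShriek j).app F).hom.app (op ((EtShriek.compEtale j).obj V)) =
      ((toRestr j).app F).hom.app (op V) := by
    have h := ((EtShriek.extZeroAdj j).homEquiv F _).apply_symm_apply ((toRestr j).app F)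
    rw [Adjunction.homEquiv_unit] at h
    exact congrArg (fun m => m.hom.app (op V)) h
  have hL : (CategoryTheory.toSheafify X.smallEtaleTopology (EtShriek.lowerShriekPre j F)).app (op ((EtShriek.compEtale j).obj V)) ≫
      (Scheme.pointSmallEtale ξ).toPresheafFiber _ (joinLift u l) ((EtShriek.lowerShriek j).obj F).obj ≫
        L.hom.app (EtShriek.lowerShriekPre j F) =
      (Scheme.pointSmallEtale ξ).toPresheafFiber _ (joinLift u l) (EtShriek.lowerShriekPre j F) := by
    have h2 : (Scheme.pointSmallEtale ξ).presheafFiber.map (CategoryTheory.toSheafify X.smallEtaleTopology (EtShriek.lowerShriekPre j F)) ≫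
        L.hom.app (EtShriek.lowerShriekPre j F) = 𝟙 _ := L.inv_hom_id_app _
    erw [← Point.toPresheafFiber_naturality_assoc, h2, Category.comp_id]
  rw [← Category.assoc]
  erw [hadj]
  change (graphPre j F V ≫ _) ≫ _ = _
  rw [Category.assoc]
  erw [hL]
  ext t
  refine psi_injective j ξ fun ζ' => ?_
  rw [ConcreteCategory.comp_apply, ConcreteCategory.comp_apply]
  refine (psi_germ j ξ ζ' F _ (joinLift u l) (⟨graphExt j F t, graphExt_mem j F t⟩)).trans ?_
  by_cases hu : ζ' = u
  · subst hu
    refine Eq.trans ?_ (psi_single_self j ξ ζ' _).symm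
    have e : (Scheme.pointSmallEtale ζ'.1).fiber.map (graph j V) l =
        liftBcAt j ξ ζ' ((EtShriek.compEtale j).obj V) (joinLift ζ' l) := fiber_bc_ext j ζ'.1 (by
      rw [liftHom_liftBcAt_fst, liftHom_map, Category.assoc]
      exact (congrArg (liftHom _ l ≫ ·) (graph_fst j V)).trans (Category.comp_id _))
    rw [← e, ← (Scheme.pointSmallEtale ζ'.1).toPresheafFiber_w_apply (graph j V) l F.obj (graphExt j F t),
      (isGraphExt j F t).1]
    rfl
  · refine Eq.trans ?_ (psi_single_ne j ξ u ζ' hu _).symm
    refine (germ_eq_zero_iff ζ'.1 F _ (graphExt j F t)).2 fun hs => hu ?_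
    obtain ⟨a, ha⟩ := eq_graph_of_factor j ((isGraphExt j F t).2 hs)
    have h1 : liftHom ζ'.1 a = liftHom u.1 l := by
      have := congrArg (fun m => liftHom _ m ≫ EtShriek.prV j ((EtShriek.compEtale j).obj V)) ha
      simp only [liftHom_map, Category.assoc] at this
      rw [graph_fst, Category.comp_id] at this
      exact this.trans (liftHom_liftBcAt_fst j ξ ζ' _ _)
    exact Subtype.ext ((liftHom_comp ζ'.1 a).symm.trans ((congrArg (· ≫ V.hom) h1).trans (liftHom_comp u.1 l)))

theorem isIso_extZeroToLowerShriek : IsIso (extZeroToLowerShriek j) := by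
  haveI : ∀ F, IsIso ((extZeroToLowerShriek j).app F) := fun F => isIso_of_alg_ab _ fun x => by
    let ξ := geomPtAlg x
    let L := (Scheme.pointSmallEtale ξ).presheafToSheafCompSheafFiberIso AddCommGrpCat.{u + 1}
    have key := fun u => ιStalk_comparison j F ξ u
    let c := (colimit.isColimit ((fibreStalks j ξ).obj F))
    have he : (EtCoh.stalk ξ).map ((extZeroToLowerShriek j).app F) ≫ L.hom.app (EtShriek.lowerShriekPre j F) =
        (isColimitExtZeroStalk (j := j) (ξ := ξ) F).desc (Cofan.mk _ fun u => single j ξ u F) := by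
      refine (isColimitExtZeroStalk (j := j) (ξ := ξ) F).hom_ext fun ⟨u⟩ => ?_
      rw [IsColimit.fac]
      exact key u
    let e := HasColimit.isoOfNatIso (F := Discrete.functor fun u : PtsOver j ξ => (EtCoh.stalk u.1).obj F)
      (G := (fibreStalks j ξ).obj F) (Discrete.natIso fun _ => Iso.refl _)
    haveI := isIso_sumToStalk j ξ F
    have hd : (isColimitExtZeroStalk (j := j) (ξ := ξ) F).desc (Cofan.mk _ fun u => single j ξ u F) =
        ((isColimitExtZeroStalk (j := j) (ξ := ξ) F).coconePointUniqueUpToIso (coproductIsCoproduct _)).hom ≫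
          e.hom ≫ sumToStalk j ξ F := by
      refine (isColimitExtZeroStalk (j := j) (ξ := ξ) F).hom_ext fun ⟨u⟩ => ?_
      rw [IsColimit.fac, IsColimit.comp_coconePointUniqueUpToIso_hom_assoc]
      change single j ξ u F = Sigma.ι _ u ≫ e.hom ≫ sumToStalk j ξ F
      rw [HasColimit.isoOfNatIso_ι_hom_assoc, ι_sumToStalk]
      exact (Category.id_comp _).symm
    haveI : IsIso ((EtCoh.stalk ξ).map ((extZeroToLowerShriek j).app F) ≫ L.hom.app (EtShriek.lowerShriekPre j F)) := by
      rw [he, hd]; infer_instance
    haveI : IsIso ((EtCoh.stalk ξ).map ((extZeroToLowerShriek j).app F)) :=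
      IsIso.of_isIso_comp_right _ (L.hom.app (EtShriek.lowerShriekPre j F))
    exact ConcreteCategory.bijective_of_isIso _
  exact NatIso.isIso_of_isIso_app _

end Groth.Agent.ShriekLib
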