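import Groth.Prelude.Def_EtShriek2
/-!
Inverse image commutes with extension by zero along étale morphisms.
-/

set_option autoImplicit false
set_option backward.isDefEq.respectTransparency false
set_option backward.isDefEq.respectTransparency.types false

universe u

open CategoryTheory CategoryTheory.Limits AlgebraicGeometry Opposite

namespace Groth.Agent.ShriekLib

variable {X Y V U : Scheme.{u}} (f : X ⟶ Y) (j : V ⟶ Y) (j' : U ⟶ X) (f' : U ⟶ V)
  [AlgebraicGeometry.Etale j] [AlgebraicGeometry.Etale j'] (h : IsPullback j' f' f j)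

/-- The two ways of base changing an étale scheme agree. -/
noncomputable def compEtaleBcObjIso (W : V.Etale) :
    ((EtShriek.compEtale j').obj ((EtCoh.bc f').obj W)).left ≅ ((EtCoh.bc f).obj ((EtShriek.compEtale j).obj W)).left :=
  ((IsPullback.of_hasPullback W.hom f').paste_vert h.flip).isoIsPullback _ _
    (IsPullback.of_hasPullback (W.hom ≫ j) f)

theorem compEtaleBcObjIso_fst (W : V.Etale) :
    (compEtaleBcObjIso f j j' f' h W).hom ≫ pullback.fst (W.hom ≫ j) f = pullback.fst W.hom f' :=
  IsPullback.isoIsPullback_hom_fst _ _ _ _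

theorem compEtaleBcObjIso_snd (W : V.Etale) :
    (compEtaleBcObjIso f j j' f' h W).hom ≫ pullback.snd (W.hom ≫ j) f = pullback.snd W.hom f' ≫ j' :=
  IsPullback.isoIsPullback_hom_snd _ _ _ _

/-- The two ways of base changing agree, as functors. -/
noncomputable def compEtaleBcIso :
    EtCoh.bc f' ⋙ EtShriek.compEtale j' ≅ EtShriek.compEtale j ⋙ EtCoh.bc f :=
  NatIso.ofComponents
    (fun W => MorphismProperty.Over.isoMk (compEtaleBcObjIso f j j' f' h W) (compEtaleBcObjIso_snd f j j' f' h W))
    (fun {W W'} g => by
      apply MorphismProperty.Over.Hom.ext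
      change ((EtCoh.bc f').map g).left ≫ (compEtaleBcObjIso f j j' f' h W').hom =
        (compEtaleBcObjIso f j j' f' h W).hom ≫ ((EtCoh.bc f).map ((EtShriek.compEtale j).map g)).left
      apply pullback.hom_ext
      · refine ((Category.assoc _ _ _).trans (congrArg (_ ≫ ·) (compEtaleBcObjIso_fst f j j' f' h W'))).trans ?_
        refine Eq.trans ?_ (Category.assoc _ _ _).symm
        refine Eq.trans ?_ (congrArg (_ ≫ ·) (EtCoh.isPullback_bc_map f ((EtShriek.compEtale j).map g)).w).symm
        refine Eq.trans ?_ ((congrArg (· ≫ g.left) (compEtaleBcObjIso_fst f j j' f' h W)).symm.trans (Category.assoc _ _ _))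
        exact (EtCoh.isPullback_bc_map f' g).w
      · refine ((Category.assoc _ _ _).trans (congrArg (_ ≫ ·) (compEtaleBcObjIso_snd f j j' f' h W'))).trans ?_
        refine Eq.trans ?_ (Category.assoc _ _ _).symm
        refine Eq.trans ?_ (congrArg (_ ≫ ·) (MorphismProperty.Over.w ((EtCoh.bc f).map ((EtShriek.compEtale j).map g)))).symm
        refine Eq.trans ?_ (compEtaleBcObjIso_snd f j j' f' h W).symm
        exact (Category.assoc _ _ _).symm.trans (congrArg (· ≫ j') (MorphismProperty.Over.w ((EtCoh.bc f').map g))))

variable [EtShriek.JCont j] [EtShriek.JCont j']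

/-- Direct image commutes with restriction. -/
noncomputable def restrPushIso :
    EtCoh.push f ⋙ EtShriek.restrAlong j ≅ EtShriek.restrAlong j' ⋙ EtCoh.push f' :=
  ((fullyFaithfulSheafToPresheaf _ _).whiskeringRight _).preimageIso
    (NatIso.ofComponents
      (fun F => Functor.isoWhiskerRight (NatIso.op (compEtaleBcIso f j j' f' h)) F.obj)
      (fun {F G} a => by
        ext W s
        exact (NatTrans.naturality_apply a.hom (((NatIso.op (compEtaleBcIso f j j' f' h)).hom.app W)) s).symm))

/-- Inverse image commutes with extension by zero. -/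
noncomputable def extZeroPullIso :
    EtShriek.extZero j ⋙ EtCoh.pull f ≅ EtCoh.pull f' ⋙ EtShriek.extZero j' :=
  Adjunction.leftAdjointUniq (((EtShriek.extZeroAdj j).comp (EtCoh.pullPushAdj f)).ofNatIsoRight (restrPushIso f j j' f' h))
    ((EtCoh.pullPushAdj f').comp (EtShriek.extZeroAdj j'))

end Groth.Agent.ShriekLib
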