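import Groth.Agent.ClSubLib.ProperOver
import Groth.Agent.EtPtsLib.IntegralStalk
import Groth.Agent.EtPtsLib.Support
import Groth.Prelude.Def_EtShriek2
/-!
Sections with proper support form subgroups and are stable under restriction.
-/

set_option autoImplicit false
set_option backward.isDefEq.respectTransparency false
set_option backward.isDefEq.respectTransparency.types false

universe u

open CategoryTheory CategoryTheory.Limits AlgebraicGeometry Opposite

namespace Groth.Agent.ShriekLib

open EtPtsLib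

variable {X Y : Scheme.{u}} (F : EtCoh.Ab X)

theorem sectSupp_zero (U : X.Etale) : EtShriek.sectSupp F U 0 = ∅ :=
  Set.eq_empty_iff_forall_notMem.2 fun x hx => hx U (𝟙 U) ⟨x, rfl⟩ (map_zero _)

theorem sectSupp_neg (U : X.Etale) (s : EtCoh.sect F U) :
    EtShriek.sectSupp F U (-s) = EtShriek.sectSupp F U s := by
  ext x
  simp only [EtShriek.sectSupp, Set.mem_setOf_eq, map_neg, ne_eq, neg_eq_zero]

theorem mem_sectSupp_iff {Ω : Type u} [Field Ω] [IsSepClosed Ω] (ξ : Spec (CommRingCat.of Ω) ⟶ X) {U : X.Etale}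
    (l : (Scheme.pointSmallEtale ξ).fiber.obj U) (s : EtCoh.sect F U) :
    liftHom ξ l default ∈ EtShriek.sectSupp F U s ↔ germ ξ F l s ≠ 0 := by
  rw [ne_eq, germ_eq_zero_iff ξ F l s, not_not]

theorem sectSupp_add_subset (U : X.Etale) (s t : EtCoh.sect F U) :
    EtShriek.sectSupp F U (s + t) ⊆ EtShriek.sectSupp F U s ∪ EtShriek.sectSupp F U t := by
  intro x hx
  obtain ⟨l, hl⟩ := exists_lift_geomPt x
  rw [← hl] at hx ⊢
  simp only [Set.mem_union, mem_sectSupp_iff] at hx ⊢
  by_contra h
  rw [not_or, not_not, not_not] at h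
  refine hx ((map_add _ _ _).trans ?_)
  exact (congrArg₂ (· + ·) h.1 h.2).trans (add_zero 0)

theorem sectSupp_map {U V : X.Etale} (g : V ⟶ U) (s : EtCoh.sect F U) :
    EtShriek.sectSupp F V (F.obj.map g.op s) = g.left ⁻¹' EtShriek.sectSupp F U s := by
  ext x
  obtain ⟨l, hl⟩ := exists_lift_geomPt x
  have e : g.left x = liftHom (geomPt (V.hom x)) ((Scheme.pointSmallEtale (geomPt (V.hom x))).fiber.map g l) default := by
    rw [liftHom_map, Scheme.Hom.comp_apply, hl]
  rw [Set.mem_preimage, e]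
  refine Iff.trans ?_ ((mem_sectSupp_iff F _ l (F.obj.map g.op s)).trans (Iff.trans ?_ (mem_sectSupp_iff F _ _ s).symm))
  · rw [hl]
  · rw [germ, germ, (Scheme.pointSmallEtale (geomPt (V.hom x))).toPresheafFiber_w_apply g l F.obj s]

theorem hasProperSupport_iff (U : X.Etale) (s : EtCoh.sect F U) {S : Scheme.{u}} (g : U.left ⟶ S) :
    EtShriek.HasProperSupport F U s g ↔ ClSub.IsProperOver g (EtShriek.sectSupp F U s) :=
  ⟨fun ⟨_, hsub, hZ⟩ => ClSubLib.isProperOver_subset g hZ (isClosed_sectSupp F U s) hsub,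
    fun h => ⟨_, subset_rfl, h⟩⟩

theorem isProperOver_empty {W S : Scheme.{u}} (g : W ⟶ S) : ClSub.IsProperOver g (∅ : Set W) := by
  refine ⟨isClosed_empty, ?_⟩
  let V := Scheme.IdealSheafData.vanishingIdeal (⟨∅, isClosed_empty⟩ : TopologicalSpace.Closeds W)
  haveI : IsEmpty V.subscheme := ⟨fun x => by
    have h : V.subschemeι x ∈ (V.support : Set W) := V.range_subschemeι ▸ ⟨x, rfl⟩
    rw [Scheme.IdealSheafData.coe_support_vanishingIdeal] at h
    exact h⟩
  infer_instance

variable (f : X ⟶ Y) [LocallyOfFiniteType f]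

theorem lft_prV (V : Y.Etale) : LocallyOfFiniteType (EtShriek.prV f V) :=
  MorphismProperty.of_isPullback (IsPullback.of_hasPullback V.hom f).flip ‹LocallyOfFiniteType f›

theorem isProperOver_bc {V V' : Y.Etale} (φ : V' ⟶ V) {Z : Set ((EtCoh.bc f).obj V).left}
    (hZ : ClSub.IsProperOver (EtShriek.prV f V) Z) :
    ClSub.IsProperOver (EtShriek.prV f V') (((EtCoh.bc f).map φ).left ⁻¹' Z) :=
  haveI := lft_prV f V
  ClSubLib.isProperOver_baseChange (EtShriek.prV f V) φ.left _ _ (EtCoh.isPullback_bc_map f φ) hZ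

theorem shriekPred_iff (V : Y.Etale) (s : EtCoh.sect F ((EtCoh.bc f).obj V)) :
    EtShriek.ShriekPred f F V s ↔
      ClSub.IsProperOver (EtShriek.prV f V) (EtShriek.sectSupp F ((EtCoh.bc f).obj V) s) := by
  refine ⟨fun h => ?_, fun h V' φ => ?_⟩
  · have h' := h V (𝟙 V)
    rw [hasProperSupport_iff] at h'
    simpa using h'
  · rw [hasProperSupport_iff, sectSupp_map]
    exact isProperOver_bc f φ h

theorem mem_shriekSubgroup_iff (V : Y.Etale) (s : EtCoh.sect F ((EtCoh.bc f).obj V)) :
    s ∈ EtShriek.shriekSubgroup f F V ↔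
      ClSub.IsProperOver (EtShriek.prV f V) (EtShriek.sectSupp F ((EtCoh.bc f).obj V) s) := by
  haveI := lft_prV f V
  refine ⟨fun h => ?_, fun h => AddSubgroup.subset_closure ((shriekPred_iff F f V s).2 h)⟩
  induction h using AddSubgroup.closure_induction with
  | mem x hx => exact (shriekPred_iff F f V x).1 hx
  | zero => rw [sectSupp_zero]; exact isProperOver_empty _
  | add x y _ _ hx hy =>
    exact ClSubLib.isProperOver_subset _ (ClSubLib.isProperOver_union _ hx hy) (isClosed_sectSupp F _ _)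
      (sectSupp_add_subset F _ x y)
  | neg x _ hx => rwa [sectSupp_neg]

end Groth.Agent.ShriekLib
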