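import Groth.Agent.ShriekLib.Compactify
/-!
Sections with compact support through a compactification.
-/

set_option autoImplicit false
set_option backward.isDefEq.respectTransparency false
set_option backward.isDefEq.respectTransparency.types false

universe u

open CategoryTheory CategoryTheory.Limits AlgebraicGeometry Opposite

namespace Groth.Agent.ShriekLib

open EtPtsLib

variable {k : Type u} [Field k] {X Xb : Scheme.{u}}

theorem mem_H0c_iff (p : X ⟶ Spec (CommRingCat.of k)) [LocallyOfFiniteType p] (F : EtCoh.Ab X)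
    (s : EtCoh.sect F (EtCoh.top X)) :
    s ∈ EtShriek.H0c p F ↔ ClSub.IsProperOver (p : (EtCoh.top X).left ⟶ _) (EtShriek.sectSupp F (EtCoh.top X) s) := by
  haveI : LocallyOfFiniteType (p : (EtCoh.top X).left ⟶ _) := ‹_›
  refine ⟨fun h => ?_, fun h => AddSubgroup.subset_closure ((hasProperSupport_iff F _ s p).2 h)⟩
  induction h using AddSubgroup.closure_induction with
  | mem x hx => exact (hasProperSupport_iff F _ x p).1 hx
  | zero => rw [sectSupp_zero]; exact isProperOver_empty _
  | add x y _ _ hx hy =>
    exact ClSubLib.isProperOver_subset _ (ClSubLib.isProperOver_union _ hx hy) (isClosed_sectSupp F _ _)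
      (sectSupp_add_subset F _ x y)
  | neg x _ hx => rwa [sectSupp_neg]

variable (j : X ⟶ Xb) [LocallyOfFiniteType j] (pb : Xb ⟶ Spec (CommRingCat.of k)) [IsProper pb]

/-- The total space as the base change of the total space. -/
noncomputable def topBcIso : (EtCoh.bc j).obj (EtCoh.top Xb) ≅ EtCoh.top X :=
  MorphismProperty.Over.isoMk (asIso (pullback.snd (𝟙 Xb) j)) (Category.comp_id _)

theorem topBcIso_comp : (topBcIso j).hom.left ≫ j = EtShriek.prV j (EtCoh.top Xb) :=
  (pullback.condition (f := 𝟙 Xb) (g := j)).symm.trans (Category.comp_id _)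

theorem map_topBcIso_mem_iff (F : EtCoh.Ab X) (s : EtCoh.sect F (EtCoh.top X)) :
    F.obj.map (topBcIso j).hom.op s ∈ EtShriek.shriekSubgroup j F (EtCoh.top Xb) ↔
      s ∈ EtShriek.H0c (j ≫ pb) F := by
  haveI : LocallyOfFiniteType (j : (EtCoh.top X).left ⟶ Xb) := ‹_›
  haveI := lft_prV j (EtCoh.top Xb)
  haveI : IsProper (pb : (EtCoh.top Xb).left ⟶ _) := ‹_›
  rw [mem_shriekSubgroup_iff, mem_H0c_iff, isProperOver_comp_iff j pb, sectSupp_map]
  haveI : IsIso (topBcIso j).hom.left := inferInstanceAs (IsIso (pullback.snd (𝟙 Xb) j))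
  refine ⟨fun h => ?_, fun h => ClSubLib.isProperOver_preimage _ _ (topBcIso j).hom.left (topBcIso_comp j) h⟩
  have h' := ClSubLib.isProperOver_preimage (j : (EtCoh.top X).left ⟶ Xb) _ (inv (topBcIso j).hom.left)
    ((IsIso.inv_comp_eq _).2 (topBcIso_comp j).symm) h
  rw [← Set.preimage_comp] at h'
  have e1 : (⇑(topBcIso j).hom.left ∘ ⇑(inv (topBcIso j).hom.left)) = id := funext fun x => by
    rw [Function.comp_apply, ← Scheme.Hom.comp_apply, IsIso.inv_hom_id]
    rfl
  exact (congrArg (ClSub.IsProperOver _) ((congrArg (· ⁻¹' EtShriek.sectSupp F (EtCoh.top X) s) e1).trans rfl)).mp h'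

/-- Compactly supported sections are the sections with proper support over the compactification. -/
noncomputable def h0cEquiv (F : EtCoh.Ab X) :
    EtShriek.H0c (j ≫ pb) F ≃+ EtShriek.shriekSubgroup j F (EtCoh.top Xb) :=
  { toFun := fun s => ⟨F.obj.map (topBcIso j).hom.op s.1, (map_topBcIso_mem_iff j pb F s.1).2 s.2⟩
    invFun := fun t => ⟨F.obj.map (topBcIso j).inv.op t.1, by
      refine (map_topBcIso_mem_iff j pb F _).1 ?_
      rw [← ConcreteCategory.comp_apply, ← Functor.map_comp, ← op_comp, Iso.hom_inv_id, op_id,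
        CategoryTheory.Functor.map_id]
      exact t.2⟩
    left_inv := fun s => Subtype.ext (by
      simp only
      rw [← ConcreteCategory.comp_apply, ← Functor.map_comp, ← op_comp, Iso.inv_hom_id, op_id,
        CategoryTheory.Functor.map_id]
      rfl)
    right_inv := fun t => Subtype.ext (by
      simp only
      rw [← ConcreteCategory.comp_apply, ← Functor.map_comp, ← op_comp, Iso.hom_inv_id, op_id,
        CategoryTheory.Functor.map_id]
      rfl)
    map_add' := fun s t => Subtype.ext (map_add _ _ _) }

end Groth.Agent.ShriekLib
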