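import Groth.Agent.ShriekLib.Basic
import Groth.Agent.FpqcDesc.Basic
/-!
The presheaf of sections with proper support is a sheaf for the etale topology.
-/

set_option autoImplicit false
set_option backward.isDefEq.respectTransparency false
set_option backward.isDefEq.respectTransparency.types false

universe u

open CategoryTheory CategoryTheory.Limits AlgebraicGeometry Opposite

namespace Groth.Agent.ShriekLib

open EtPtsLib

variable {X Y : Scheme.{u}} (F : EtCoh.Ab X) (f : X ⟶ Y) [LocallyOfFiniteType f]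

theorem isProperOver_of_cover {V : Y.Etale} (S : Sieve V) (hS : S ∈ Y.smallEtaleTopology V)
    (Z : Set ((EtCoh.bc f).obj V).left) (hcl : IsClosed Z)
    (h : ∀ (W : Y.Etale) (φ : W ⟶ V), S φ →
      ClSub.IsProperOver (EtShriek.prV f W) (((EtCoh.bc f).map φ).left ⁻¹' Z)) :
    ClSub.IsProperOver (EtShriek.prV f V) Z := by
  haveI := lft_prV f V
  let A := Scheme.IdealSheafData.vanishingIdeal (⟨Z, hcl⟩ : TopologicalSpace.Closeds ((EtCoh.bc f).obj V).left)
  refine ⟨hcl, ?_⟩
  let q := A.subschemeι ≫ EtShriek.prV f V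
  show IsProper q
  have eY : Y.smallEtaleTopology =
      (Y.smallPretopology (P := EtCoh.etaleMP) (Q := EtCoh.etaleMP)).toGrothendieck :=
    Scheme.smallGrothendieckTopology_eq_toGrothendieck_smallPretopology Y le_rfl
  rw [eY] at hS
  choose W φ w hw hP hx using (Scheme.mem_toGrothendieck_smallPretopology V S).1 hS
  haveI : ∀ v, Etale (φ v).left := fun v => etale_left (φ v)
  let O : V.left → V.left.Opens := fun v => ⟨Set.range (φ v).left, (φ v).left.isOpenMap.isOpen_range⟩
  have hO : iSup O = ⊤ := top_le_iff.1 fun v _ => TopologicalSpace.Opens.mem_iSup.2 ⟨v, w v, hx v⟩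
  haveI := FpqcDesc.isProper_descends.{u}
  refine IsZariskiLocalAtTarget.of_iSup_eq_top O hO fun v => ?_
  let b := ((EtCoh.bc f).map (φ v)).left
  haveI := lft_prV f (W v)
  have hrange : Set.range (pullback.fst b A.subschemeι) = b ⁻¹' Z := by
    rw [Scheme.Pullback.range_fst, Scheme.IdealSheafData.range_subschemeι,
      Scheme.IdealSheafData.coe_support_vanishingIdeal]
    rfl
  have hp : IsProper (pullback.fst b A.subschemeι ≫ EtShriek.prV f (W v)) :=
    (ClSubLib.isProperOver_iff (EtShriek.prV f (W v)) (pullback.fst b A.subschemeι) hrange).1 (h (W v) (φ v) (hw v))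
  have sq : IsPullback (pullback.snd b A.subschemeι) (pullback.fst b A.subschemeι ≫ EtShriek.prV f (W v))
      q (φ v).left :=
    (IsPullback.of_hasPullback b A.subschemeι).flip.paste_vert (EtCoh.isPullback_bc_map f (φ v))
  let ψ : (W v).left ⟶ (O v).toScheme := IsOpenImmersion.lift (O v).ι (φ v).left (by simp [O])
  have eψ : ψ ≫ (O v).ι = (φ v).left := IsOpenImmersion.lift_fac _ _ _
  haveI : Etale (ψ ≫ (O v).ι) := by rw [eψ]; infer_instance
  haveI : Etale ψ := Etale.of_comp ψ (O v).ι
  haveI : Surjective ψ := ⟨fun ⟨y, z, hz⟩ => ⟨z, (O v).ι.isOpenEmbedding.injective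
    (by rw [← Scheme.Hom.comp_apply, eψ]; exact hz)⟩⟩
  rw [← eψ] at sq
  exact MorphismProperty.of_isPullback_of_descendsAlong (P := @IsProper)
    (Q := @Surjective ⊓ @Flat ⊓ @LocallyOfFinitePresentation)
    (IsPullback.of_right' sq (isPullback_morphismRestrict q (O v)).flip).flip
    ⟨⟨inferInstance, inferInstance⟩, inferInstance⟩ hp

theorem isSheaf_lowerShriekPre :
    Presheaf.IsSheaf Y.smallEtaleTopology (EtShriek.lowerShriekPre f F) := by
  rw [Presheaf.isSheaf_iff_isSheaf_forget _ _ (forget AddCommGrpCat.{u + 1}), isSheaf_iff_isSheaf_of_type]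
  have hG : Presieve.IsSheaf Y.smallEtaleTopology
      (((EtCoh.push f).obj F).obj ⋙ forget AddCommGrpCat.{u + 1}) := by
    rw [← isSheaf_iff_isSheaf_of_type, ← Presheaf.isSheaf_iff_isSheaf_forget]
    exact ((EtCoh.push f).obj F).property
  intro V S hS x hx
  let x' : Presieve.FamilyOfElements (((EtCoh.push f).obj F).obj ⋙ forget AddCommGrpCat.{u + 1}) S.arrows :=
    fun W φ h => (x φ h).1
  have hx' : x'.Compatible := fun W₁ W₂ Z g₁ g₂ φ₁ φ₂ h₁ h₂ e =>
    congrArg Subtype.val (hx g₁ g₂ h₁ h₂ e)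
  obtain ⟨t, ht, huniq⟩ := hG S hS x' hx'
  have hmem : (t : EtCoh.sect F ((EtCoh.bc f).obj V)) ∈ EtShriek.shriekSubgroup f F V := by
    rw [mem_shriekSubgroup_iff]
    refine isProperOver_of_cover f S hS _ (isClosed_sectSupp F _ _) fun W φ hφ => ?_
    rw [← sectSupp_map]
    exact (mem_shriekSubgroup_iff F f W _).1 ((ht φ hφ).symm ▸ (x φ hφ).2)
  refine ⟨⟨t, hmem⟩, fun W φ hφ => Subtype.ext (ht φ hφ), fun y hy => Subtype.ext (huniq y.1 ?_)⟩
  exact fun W φ hφ => congrArg Subtype.val (hy φ hφ)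

end Groth.Agent.ShriekLib
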