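import Groth.Agent.ShriekLib.Compactify
/-!
Direct images with proper support compose.
-/

set_option autoImplicit false
set_option backward.isDefEq.respectTransparency false
set_option backward.isDefEq.respectTransparency.types false

universe u

open CategoryTheory CategoryTheory.Limits AlgebraicGeometry Opposite

namespace Groth.Agent.ShriekLib

open EtPtsLib

/-- The direct image with proper support, without sheafifying. -/
noncomputable def lShriek {A B : Scheme.{u}} (f : A ⟶ B) [LocallyOfFiniteType f] : EtCoh.Ab A ⥤ EtCoh.Ab B :=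
  ObjectProperty.lift _ (EtShriek.lowerShriekPreFunctor f) fun F => isSheaf_lowerShriekPre F f

/-- Sheafifying does not matter. -/
noncomputable def lShriekIso {A B : Scheme.{u}} (f : A ⟶ B) [LocallyOfFiniteType f] :
    lShriek f ≅ EtShriek.lowerShriek f :=
  ((fullyFaithfulSheafToPresheaf _ _).whiskeringRight _).preimageIso
    (show lShriek f ⋙ sheafToPresheaf _ _ ≅ EtShriek.lowerShriek f ⋙ sheafToPresheaf _ _ from lowerShriekForgetIso f)

/-- Properness along a composite. -/
theorem isProperOver_comp_iff' {W S T : Scheme.{u}} (p : W ⟶ S) [LocallyOfFiniteType p] (q : S ⟶ T)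
    [IsSeparated q] [LocallyOfFiniteType q] (Z : Set W) :
    ClSub.IsProperOver (p ≫ q) Z ↔ ClSub.IsProperOver p Z ∧ ClSub.IsProperOver q (p '' Z) := by
  constructor
  · intro h
    refine ⟨?_, ClSubLib.isProperOver_image (p ≫ q) q p rfl h (Or.inr ‹IsSeparated q›)⟩
    obtain ⟨M, i, hi, -, hr, hp⟩ := ClSubLib.exists_model _ h
    haveI := hi
    haveI : IsProper ((i ≫ p) ≫ q) := by rw [Category.assoc]; exact hp
    exact (ClSubLib.isProperOver_iff p i hr).2 (IsProper.of_comp (i ≫ p) q)
  · rintro ⟨h₁, h₂⟩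
    obtain ⟨M, i, hi, hM, hr, hp⟩ := ClSubLib.exists_model _ h₁
    obtain ⟨N, j, hj, -, hrN, hpN⟩ := ClSubLib.exists_model _ h₂
    haveI := hi; haveI := hj; haveI := hp; haveI := hpN; haveI := hM
    have hle : j.ker ≤ (i ≫ p).ker := by
      have h' : (i ≫ p).ker = Scheme.IdealSheafData.vanishingIdeal (i ≫ p).ker.support := by
        rw [Scheme.IdealSheafData.vanishingIdeal_support]
        refine le_antisymm (Scheme.IdealSheafData.le_radical _) fun U a ha => ?_
        rw [Scheme.Hom.ker_apply, RingHom.mem_ker]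
        obtain ⟨n, hn⟩ := ha
        rw [Scheme.Hom.ker_apply, RingHom.mem_ker, map_pow] at hn
        exact IsReduced.eq_zero _ ⟨n, hn⟩
      rw [h']
      refine Scheme.IdealSheafData.le_support_iff_le_vanishingIdeal.1 fun x hx => ?_
      show x ∈ (j.ker.support : Set S)
      rw [Scheme.Hom.support_ker, hrN]
      have hx' : x ∈ ((i ≫ p).ker.support : Set S) := hx
      rw [Scheme.Hom.support_ker] at hx'
      have e : Set.range (i ≫ p) = p '' Z := by
        rw [← hr, ← Set.range_comp]; rfl
      rwa [e] at hx'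
    let l : M ⟶ N := IsClosedImmersion.lift j (i ≫ p) hle
    have hl : l ≫ j = i ≫ p := IsClosedImmersion.lift_fac _ _ _
    haveI : IsProper (l ≫ j) := by rw [hl]; exact hp
    haveI : IsProper l := IsProper.of_comp l j
    refine (ClSubLib.isProperOver_iff (p ≫ q) i hr).2 ?_
    rw [← Category.assoc, ← hl, Category.assoc]
    infer_instance

variable {X Y Z : Scheme.{u}} (f : X ⟶ Y) [LocallyOfFiniteType f]

/-- The support of a section of the direct image with proper support. -/
theorem sectSupp_lShriek (F : EtCoh.Ab X) (W : Y.Etale) (s : EtShriek.shriekSubgroup f F W) :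
    EtShriek.sectSupp ((lShriek f).obj F) W s =
      EtShriek.prV f W '' EtShriek.sectSupp F ((EtCoh.bc f).obj W) s.1 := by
  haveI := lft_prV f W
  have hprop := (mem_shriekSubgroup_iff F f W s.1).1 s.2
  have hcl : IsClosed (EtShriek.prV f W '' EtShriek.sectSupp F ((EtCoh.bc f).obj W) s.1) := by
    obtain ⟨M, i, hi, -, hr, hp⟩ := ClSubLib.exists_model _ hprop
    rw [← hr, ← Set.range_comp]
    haveI := hp
    exact (i ≫ EtShriek.prV f W).isClosedMap.isClosed_range
  ext y
  constructor
  · intro hy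
    by_contra hn
    let O : W.left.Opens := ⟨_, hcl.isOpen_compl⟩
    haveI : AlgebraicGeometry.Etale W.hom := W.prop
    haveI : AlgebraicGeometry.Etale (O.ι ≫ W.hom) := inferInstance
    let W₀ : Y.Etale := Scheme.Etale.mk (O.ι ≫ W.hom)
    let g : W₀ ⟶ W := MorphismProperty.Over.homMk O.ι rfl
    refine hy W₀ g ⟨⟨y, hn⟩, rfl⟩ (Subtype.ext ?_)
    show F.obj.map ((EtCoh.bc f).map g).op s.1 = 0
    refine sect_ext F _ _ _ fun Ω _ _ ζ l => ?_
    refine ((germ_eq_zero_iff ζ F l _).2 fun hm => ?_).trans (map_zero _).symm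
    rw [sectSupp_map] at hm
    have h2 : g.left (EtShriek.prV f W₀ (liftHom ζ l default)) ∈
        EtShriek.prV f W '' EtShriek.sectSupp F ((EtCoh.bc f).obj W) s.1 := by
      refine ⟨_, hm, ?_⟩
      rw [← Scheme.Hom.comp_apply, ← Scheme.Hom.comp_apply, ← Scheme.Hom.comp_apply]
      exact congrArg (fun q => (liftHom ζ l ≫ q) default) (EtCoh.isPullback_bc_map f g).w
    exact (EtShriek.prV f W₀ (liftHom ζ l default)).2 h2
  · rintro ⟨x, hx, rfl⟩ W' g ⟨w, hw⟩ h0
    obtain ⟨z, hz, -⟩ := Scheme.Pullback.exists_preimage_pullback (f := EtShriek.prV f W) (g := g.left) x w hw.symm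
    have hz' : ((EtCoh.bc f).map g).left ((EtCoh.isPullback_bc_map f g).isoPullback.inv z) = x := by
      rw [← Scheme.Hom.comp_apply, IsPullback.isoPullback_inv_fst]; exact hz
    have h1 : F.obj.map ((EtCoh.bc f).map g).op s.1 = 0 := congrArg Subtype.val h0
    have h2 : (EtCoh.isPullback_bc_map f g).isoPullback.inv z ∈
        EtShriek.sectSupp F _ (F.obj.map ((EtCoh.bc f).map g).op s.1) := by
      rw [sectSupp_map, Set.mem_preimage, hz']
      exact hx
    rw [h1, sectSupp_zero] at h2
    exact h2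

variable (g : Y ⟶ Z) [IsSeparated g] [LocallyOfFiniteType g]

/-- The comparison of base changes. -/
noncomputable def bcComp2 : EtCoh.bc (f ≫ g) ≅ EtCoh.bc g ⋙ EtCoh.bc f :=
  MorphismProperty.Over.pullbackComp (P := EtCoh.etaleMP) (Q := ⊤) f g

theorem bcComp2_prV (V : Z.Etale) :
    ((bcComp2 f g).hom.app V).left ≫ EtShriek.prV f ((EtCoh.bc g).obj V) ≫ EtShriek.prV g V =
      EtShriek.prV (f ≫ g) V :=
  MorphismProperty.Over.pullbackComp_left_fst_fst (P := EtCoh.etaleMP) (Q := ⊤) f g V

theorem mem_shriek_comp2_iff (F : EtCoh.Ab X) (V : Z.Etale)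
    (s : EtCoh.sect F ((EtCoh.bc f).obj ((EtCoh.bc g).obj V))) :
    F.obj.map ((bcComp2 f g).hom.app V).op s ∈ EtShriek.shriekSubgroup (f ≫ g) F V ↔
      ∃ h : s ∈ EtShriek.shriekSubgroup f F ((EtCoh.bc g).obj V),
        (⟨s, h⟩ : EtShriek.shriekSubgroup f F ((EtCoh.bc g).obj V)) ∈ EtShriek.shriekSubgroup g ((lShriek f).obj F) V := by
  haveI := lft_prV f ((EtCoh.bc g).obj V)
  haveI := lft_prV g V
  haveI := lft_prV (f ≫ g) V
  haveI : IsSeparated (EtShriek.prV g V) :=
    MorphismProperty.of_isPullback (P := @IsSeparated) (IsPullback.of_hasPullback V.hom g).flip ‹IsSeparated g›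
  let e := (bcComp2 f g).app V
  haveI : IsIso e.hom.left := by
    refine ⟨e.inv.left, ?_, ?_⟩
    · exact congrArg (fun m => m.left) e.hom_inv_id
    · exact congrArg (fun m => m.left) e.inv_hom_id
  have hT : ClSub.IsProperOver (EtShriek.prV (f ≫ g) V) (e.hom.left ⁻¹' EtShriek.sectSupp F _ s) ↔
      ClSub.IsProperOver (EtShriek.prV f _ ≫ EtShriek.prV g V) (EtShriek.sectSupp F _ s) := by
    refine ⟨fun h => ?_, fun h => ClSubLib.isProperOver_preimage _ _ e.hom.left (bcComp2_prV f g V) h⟩
    have h' := ClSubLib.isProperOver_preimage _ _ (inv e.hom.left)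
      ((IsIso.inv_comp_eq _).2 (bcComp2_prV f g V).symm) h
    rw [← Set.preimage_comp] at h'
    have e1 : (⇑e.hom.left ∘ ⇑(inv e.hom.left)) = id := funext fun x => by
      rw [Function.comp_apply, ← Scheme.Hom.comp_apply, IsIso.inv_hom_id e.hom.left]
      rfl
    exact (congrArg (ClSub.IsProperOver _) ((congrArg (· ⁻¹' EtShriek.sectSupp F _ s) e1).trans rfl)).mp h'
  rw [mem_shriekSubgroup_iff, sectSupp_map]
  refine hT.trans ((isProperOver_comp_iff' (EtShriek.prV f _) (EtShriek.prV g V) _).trans ?_)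
  constructor
  · rintro ⟨h₁, h₂⟩
    refine ⟨(mem_shriekSubgroup_iff F f _ s).2 h₁, (mem_shriekSubgroup_iff ((lShriek f).obj F) g V _).2 ?_⟩
    exact (sectSupp_lShriek f F _ ⟨s, (mem_shriekSubgroup_iff F f _ s).2 h₁⟩).symm ▸ h₂
  · rintro ⟨h₁, h₂⟩
    refine ⟨(mem_shriekSubgroup_iff F f _ s).1 h₁, ?_⟩
    rw [← sectSupp_lShriek f F _ ⟨s, h₁⟩]
    exact (mem_shriekSubgroup_iff ((lShriek f).obj F) g V _).1 h₂

/-- The component of the comparison. -/
noncomputable def shriekComp2App (F : EtCoh.Ab X) (V : Z.Etale) :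
    (EtShriek.lowerShriekPre g ((lShriek f).obj F)).obj (op V) ≅ (EtShriek.lowerShriekPre (f ≫ g) F).obj (op V) :=
  AddEquiv.toAddCommGrpIso
    { toFun := fun s => ⟨F.obj.map ((bcComp2 f g).hom.app V).op s.1.1,
        (mem_shriek_comp2_iff f g F V s.1.1).2 ⟨s.1.2, s.2⟩⟩
      invFun := fun t =>
        have h : ∃ h : F.obj.map ((bcComp2 f g).inv.app V).op t.1 ∈ EtShriek.shriekSubgroup f F ((EtCoh.bc g).obj V),
            (⟨_, h⟩ : EtShriek.shriekSubgroup f F ((EtCoh.bc g).obj V)) ∈
              EtShriek.shriekSubgroup g ((lShriek f).obj F) V := by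
          refine (mem_shriek_comp2_iff f g F V _).1 ?_
          rw [← ConcreteCategory.comp_apply, ← Functor.map_comp, ← op_comp, Iso.hom_inv_id_app, op_id,
            CategoryTheory.Functor.map_id]
          exact t.2
        ⟨⟨_, h.1⟩, h.2⟩
      left_inv := fun s => Subtype.ext (Subtype.ext (by
        simp only
        rw [← ConcreteCategory.comp_apply, ← Functor.map_comp, ← op_comp, Iso.inv_hom_id_app, op_id,
          CategoryTheory.Functor.map_id]
        rfl))
      right_inv := fun t => Subtype.ext (by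
        simp only
        rw [← ConcreteCategory.comp_apply, ← Functor.map_comp, ← op_comp, Iso.hom_inv_id_app, op_id,
          CategoryTheory.Functor.map_id]
        rfl)
      map_add' := fun s t => Subtype.ext (map_add (F.obj.map ((bcComp2 f g).hom.app V).op).hom s.1.1 t.1.1) }

/-- Sections with proper support along a composite. -/
noncomputable def shriekPreComp2 :
    lShriek f ⋙ EtShriek.lowerShriekPreFunctor g ≅ EtShriek.lowerShriekPreFunctor (f ≫ g) :=
  NatIso.ofComponents
    (fun F => NatIso.ofComponents (fun V => shriekComp2App f g F V.unop) (by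
      intro V W φ
      ext s
      refine Subtype.ext ?_
      change F.obj.map _ (F.obj.map _ s.1.1) = F.obj.map _ (F.obj.map _ s.1.1)
      rw [← ConcreteCategory.comp_apply, ← ConcreteCategory.comp_apply, ← Functor.map_comp, ← Functor.map_comp,
        ← op_comp, ← op_comp]
      exact congrArg (fun q => (F.obj.map (Quiver.Hom.op q)) s.1.1) ((bcComp2 f g).hom.naturality φ.unop).symm))
    (by
      intro F G a
      ext V s
      exact Subtype.ext (ConcreteCategory.congr_hom (a.hom.naturality ((bcComp2 f g).hom.app V.unop).op) s.1.1).symm)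

/-- Direct images with proper support compose. -/
noncomputable def lowerShriekComp2Iso :
    EtShriek.lowerShriek f ⋙ EtShriek.lowerShriek g ≅ EtShriek.lowerShriek (f ≫ g) :=
  Functor.isoWhiskerRight (lShriekIso f).symm _ ≪≫
    (Functor.associator _ _ _).symm ≪≫
      Functor.isoWhiskerRight (shriekPreComp2 f g) (presheafToSheaf _ _)

end Groth.Agent.ShriekLib
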