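import Groth.Agent.ShriekLib.Compose
import Groth.Agent.EtPtsLib.IntegralUI
/-!
Direct image with proper support commutes with direct sums.
-/

set_option autoImplicit false
set_option backward.isDefEq.respectTransparency false
set_option backward.isDefEq.respectTransparency.types false

universe u

open CategoryTheory CategoryTheory.Limits AlgebraicGeometry Opposite GrothendieckTopology

namespace Groth.Agent.ShriekLib

open EtPtsLib

section Sums

variable {X : Scheme.{u}} {ι : Type u} (G : ι → EtCoh.Ab X) [HasCoproduct G]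

open Classical in
/-- The projection of a direct sum to a summand. -/
noncomputable def sumProj (j : ι) : ∐ G ⟶ G j :=
  Sigma.desc fun i => if h : i = j then eqToHom (by rw [h]) else 0

theorem ι_sumProj_self (j : ι) : Sigma.ι G j ≫ sumProj G j = 𝟙 _ := by
  simp [sumProj]

theorem ι_sumProj_ne {i j : ι} (h : i ≠ j) : Sigma.ι G i ≫ sumProj G j = 0 := by
  simp [sumProj, h]

/-- The projection of a direct sum to finitely many summands. -/
noncomputable def sumTrunc (I : Finset ι) : ∐ G ⟶ ∐ G := ∑ j ∈ I, sumProj G j ≫ Sigma.ι G j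

open Classical in
theorem ι_sumTrunc (I : Finset ι) (i : ι) :
    Sigma.ι G i ≫ sumTrunc G I = if i ∈ I then Sigma.ι G i else 0 := by
  rw [sumTrunc, Preadditive.comp_sum]
  split_ifs with h
  · rw [Finset.sum_eq_single i (fun j _ hj => by rw [← Category.assoc, ι_sumProj_ne G (Ne.symm hj), zero_comp])
      (fun hn => absurd h hn), ← Category.assoc, ι_sumProj_self, Category.id_comp]
  · exact Finset.sum_eq_zero fun j hj => by
      rw [← Category.assoc, ι_sumProj_ne G (fun e : i = j => h (e ▸ hj)), zero_comp]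

theorem sumTrunc_comp {I J : Finset ι} (h : I ⊆ J) : sumTrunc G I ≫ sumTrunc G J = sumTrunc G I := by
  classical
  refine Sigma.hom_ext _ _ fun i => ?_
  rw [← Category.assoc, ι_sumTrunc]
  split_ifs with hi
  · rw [ι_sumTrunc, if_pos (h hi)]
  · rw [zero_comp]

variable {Ω : Type u} [Field Ω] [IsSepClosed Ω] (ξ : Spec (CommRingCat.of Ω) ⟶ X)

theorem stalk_sumTrunc_of_subset {I J : Finset ι} (h : I ⊆ J) (a : (EtCoh.stalk ξ).obj (∐ G))
    (ha : (EtCoh.stalk ξ).map (sumTrunc G I) a = a) : (EtCoh.stalk ξ).map (sumTrunc G J) a = a := by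
  nth_rw 1 [← ha]
  rw [← ConcreteCategory.comp_apply, ← Functor.map_comp, sumTrunc_comp G h, ha]

/-- Every germ of a direct sum involves finitely many summands. -/
theorem exists_stalk_sumTrunc (a : (EtCoh.stalk ξ).obj (∐ G)) :
    ∃ I, (EtCoh.stalk ξ).map (sumTrunc G I) a = a := by
  classical
  haveI : PreservesColimitsOfSize.{u + 1, u + 1} (EtCoh.stalk ξ) :=
    ((Scheme.pointSmallEtale ξ).skyscraperSheafAdjunction (A := AddCommGrpCat.{u + 1})).leftAdjoint_preservesColimits
  haveI : PreservesColimitsOfSize.{u, u} (EtCoh.stalk ξ) := preservesColimitsOfSize_shrink.{u, u + 1, u, u + 1} _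
  let S : AddSubgroup ((EtCoh.stalk ξ).obj (∐ G)) :=
    { carrier := {a | ∃ I, (EtCoh.stalk ξ).map (sumTrunc G I) a = a}
      zero_mem' := ⟨∅, map_zero _⟩
      add_mem' := by
        rintro a b ⟨I, hI⟩ ⟨J, hJ⟩
        refine ⟨I ∪ J, ?_⟩
        rw [map_add, stalk_sumTrunc_of_subset G ξ Finset.subset_union_left a hI,
          stalk_sumTrunc_of_subset G ξ Finset.subset_union_right b hJ]
      neg_mem' := by
        rintro a ⟨I, hI⟩
        exact ⟨I, by rw [map_neg, hI]⟩ }
  suffices hS : S = ⊤ by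
    have : a ∈ S := hS ▸ AddSubgroup.mem_top a
    exact this
  let q : (EtCoh.stalk ξ).obj (∐ G) ⟶ AddCommGrpCat.of (((EtCoh.stalk ξ).obj (∐ G)) ⧸ S) :=
    AddCommGrpCat.ofHom (QuotientAddGroup.mk' S)
  have hq : q = 0 := by
    refine (isColimitOfPreserves (EtCoh.stalk ξ) (coproductIsCoproduct G)).hom_ext fun ⟨i⟩ => ?_
    ext b
    refine (QuotientAddGroup.eq_zero_iff _).2 ⟨{i}, ?_⟩
    change (EtCoh.stalk ξ).map (sumTrunc G {i}) ((EtCoh.stalk ξ).map (Sigma.ι G i) b) = (EtCoh.stalk ξ).map (Sigma.ι G i) b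
    rw [← ConcreteCategory.comp_apply, ← Functor.map_comp, ι_sumTrunc, if_pos (Finset.mem_singleton_self i)]
  refine (AddSubgroup.eq_top_iff' S).2 fun b => (QuotientAddGroup.eq_zero_iff b).1 ?_
  exact congrArg (fun m => m.hom b) hq

theorem germ_app {F H : EtCoh.Ab X} (φ : F ⟶ H) {U : X.Etale} (l : (Scheme.pointSmallEtale ξ).fiber.obj U)
    (s : EtCoh.sect F U) : germ ξ H l (φ.hom.app _ s) = (EtCoh.stalk ξ).map φ (germ ξ F l s) :=
  ((Scheme.pointSmallEtale ξ).toPresheafFiber_naturality_apply φ.hom U l s).symm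

theorem germ_sub_eq_zero {F : EtCoh.Ab X} {U : X.Etale} (l : (Scheme.pointSmallEtale ξ).fiber.obj U)
    {s t : EtCoh.sect F U} (h : germ ξ F l s = germ ξ F l t) : germ ξ F l (s - t) = 0 := by
  rw [germ, map_sub, sub_eq_zero]
  exact h

/-- A section with quasi-compact support of a direct sum involves finitely many summands. -/
theorem exists_sumTrunc_eq (U : X.Etale) (s : EtCoh.sect (∐ G) U)
    (hc : IsCompact (EtShriek.sectSupp (∐ G) U s)) :
    ∃ J, (sumTrunc G J).hom.app (op U) s = s := by
  classical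
  choose l hl using fun x : U.left => exists_lift_geomPt x
  choose I hI using fun x : U.left => exists_stalk_sumTrunc G (geomPt (U.hom x)) (germ _ (∐ G) (l x) s)
  let O : U.left → Set U.left := fun x => (EtShriek.sectSupp (∐ G) U ((sumTrunc G (I x)).hom.app (op U) s - s))ᶜ
  have hO : ∀ x, IsOpen (O x) := fun x => (isClosed_sectSupp _ _ _).isOpen_compl
  have hmem : ∀ x, x ∈ O x := fun x hx => by
    refine (mem_sectSupp_iff (∐ G) (geomPt (U.hom x)) (l x) _).1 (by rw [hl x]; exact hx) ?_
    have e := (germ_app (geomPt (U.hom x)) (sumTrunc G (I x)) (l x) s).trans (hI x)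
    exact germ_sub_eq_zero _ (l x) e
  obtain ⟨A, hA⟩ := hc.elim_finite_subcover O hO fun x _ => Set.mem_iUnion.2 ⟨x, hmem x⟩
  refine ⟨A.biUnion I, sect_ext _ _ _ _ fun Ω' _ _ ζ m => ?_⟩
  rw [germ_app]
  by_cases hm : liftHom ζ m default ∈ EtShriek.sectSupp (∐ G) U s
  · obtain ⟨x, hxA, hx⟩ := Set.mem_iUnion₂.1 (hA hm)
    refine stalk_sumTrunc_of_subset G ζ (Finset.subset_biUnion_of_mem I hxA) _ ?_
    rw [← germ_app]
    refine sub_eq_zero.1 ((map_sub ((Scheme.pointSmallEtale ζ).toPresheafFiber U m (∐ G).obj).hom _ _).symm.trans ?_)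
    exact (germ_eq_zero_iff ζ _ m _).2 hx
  · rw [(germ_eq_zero_iff ζ _ m s).2 hm, map_zero]

end Sums

section Functor

variable {X Y : Scheme.{u}} (f : X ⟶ Y) [LocallyOfFiniteType f]

instance : (lShriek f).Additive where
  map_add {F G a b} := by
    apply Sheaf.hom_ext
    ext V s
    rfl

theorem preservesCoproducts [IsSeparated f] (ι : Type u) :
    PreservesColimitsOfShape (Discrete ι) (EtShriek.lowerShriek f) := by
  suffices PreservesColimitsOfShape (Discrete ι) (lShriek f) from preservesColimitsOfShape_of_natIso (lShriekIso f)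
  haveI : ∀ F : ι → EtCoh.Ab X, IsIso (sigmaComparison (lShriek f) F) := fun F => by
    let c := sigmaComparison (lShriek f) F
    let r : Finset ι → ((lShriek f).obj (∐ F) ⟶ ∐ fun i => (lShriek f).obj (F i)) := fun I =>
      ∑ j ∈ I, (lShriek f).map (sumProj F j) ≫ Sigma.ι (fun i => (lShriek f).obj (F i)) j
    have hp : ∀ j, c ≫ (lShriek f).map (sumProj F j) = sumProj (fun i => (lShriek f).obj (F i)) j := fun j =>
      Sigma.hom_ext _ _ fun i => by
        rw [← Category.assoc, ι_comp_sigmaComparison, ← Functor.map_comp]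
        by_cases h : i = j
        · subst h
          rw [ι_sumProj_self, ι_sumProj_self, CategoryTheory.Functor.map_id]
        · rw [ι_sumProj_ne _ h, ι_sumProj_ne _ h, Functor.map_zero]
    have hcr : ∀ I, c ≫ r I = sumTrunc (fun i => (lShriek f).obj (F i)) I := fun I => by
      simp only [r, sumTrunc, Preadditive.comp_sum, ← Category.assoc, hp]
    have hrc : ∀ I, r I ≫ c = (lShriek f).map (sumTrunc F I) := fun I => by
      simp only [r, c, sumTrunc, Preadditive.sum_comp, Category.assoc, ι_comp_sigmaComparison, Functor.map_sum,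
        Functor.map_comp]
    refine isIso_of_alg_ab c fun y => ⟨(injective_iff_map_eq_zero _).2 fun a ha => ?_, fun b => ?_⟩
    · obtain ⟨I, hI⟩ := exists_stalk_sumTrunc (fun i => (lShriek f).obj (F i)) _ a
      rw [← hI, ← hcr, Functor.map_comp, ConcreteCategory.comp_apply, ha, map_zero]
    · obtain ⟨V, l, t, rfl⟩ := (Scheme.pointSmallEtale (geomPtAlg y)).toPresheafFiber_jointly_surjective b
      obtain ⟨R, hR, hlR, -⟩ := exists_isAffineOpen_mem_and_subset
        (show liftHom (geomPtAlg y) l default ∈ (⊤ : V.left.Opens) from trivial)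
      haveI : AlgebraicGeometry.Etale V.hom := V.prop
      haveI : AlgebraicGeometry.Etale (R.ι ≫ V.hom) := inferInstance
      let W : Y.Etale := Scheme.Etale.mk (R.ι ≫ V.hom)
      let g : W ⟶ V := MorphismProperty.Over.homMk R.ι rfl
      obtain ⟨m, hm⟩ := exists_fiber_map_eq (geomPtAlg y) g l (⟨_, hlR⟩ : R.toScheme) rfl
      let t' : EtShriek.shriekSubgroup f (∐ F) W := ((lShriek f).obj (∐ F)).obj.map g.op t
      have hc : IsCompact (EtShriek.sectSupp (∐ F) ((EtCoh.bc f).obj W) t'.1) := by
        obtain ⟨M, i, hi, -, hr, hM⟩ := ClSubLib.exists_model _ ((mem_shriekSubgroup_iff (∐ F) f W t'.1).1 t'.2)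
        haveI := hM
        haveI : IsAffine W.left := hR
        haveI : CompactSpace M := QuasiCompact.compactSpace_of_compactSpace (i ≫ EtShriek.prV f W)
        rw [← hr]
        exact isCompact_range i.continuous
      obtain ⟨J, hJ⟩ := exists_sumTrunc_eq F _ t'.1 hc
      have hJ' : ((lShriek f).map (sumTrunc F J)).hom.app (op W) t' = t' := Subtype.ext hJ
      refine ⟨(EtCoh.stalk (geomPtAlg y)).map (r J) (germ (geomPtAlg y) _ m t'), ?_⟩
      rw [← ConcreteCategory.comp_apply, ← Functor.map_comp, hrc, ← germ_app, hJ', ← hm]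
      exact germ_map _ _ g m t
  refine ⟨fun {K} => ?_⟩
  haveI : PreservesColimit (Discrete.functor (K.obj ∘ Discrete.mk)) (lShriek f) :=
    PreservesCoproduct.of_iso_comparison (lShriek f) fun i => K.obj ⟨i⟩
  exact preservesColimit_of_iso_diagram _ Discrete.natIsoFunctor.symm

end Functor

end Groth.Agent.ShriekLib
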