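import Groth.Agent.ShriekLib.Fibre
import Groth.Agent.EtPtsLib.IntegralUI
/-!
Stalks of direct images with proper support along separated locally quasi-finite morphisms.
-/

set_option autoImplicit false
set_option backward.isDefEq.respectTransparency false
set_option backward.isDefEq.respectTransparency.types false

universe u

open CategoryTheory CategoryTheory.Limits AlgebraicGeometry Opposite GrothendieckTopology

namespace Groth.Agent.ShriekLib

open EtPtsLib

variable {X Y : Scheme.{u}} (f : X ⟶ Y) {Ω : Type u} [Field Ω] [IsAlgClosed Ω]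
  (η : Spec (CommRingCat.of Ω) ⟶ Y)

theorem psi_naturality (ζ : EtaleSplit.GPts f η) {F G : EtCoh.Ab X} (a : F ⟶ G)
    (x : ToType ((Scheme.pointSmallEtale η).presheafFiber.obj (EtShriek.lowerShriekPre f F))) :
    psi f η ζ G ((Scheme.pointSmallEtale η).presheafFiber.map ((EtShriek.lowerShriekPreFunctor f).map a) x) =
      (Scheme.pointSmallEtale ζ.1).presheafFiber.map a.hom (psi f η ζ F x) := by
  obtain ⟨V, l, s, rfl⟩ := (Scheme.pointSmallEtale η).toPresheafFiber_jointly_surjective x
  rw [psi_germ]
  erw [(Scheme.pointSmallEtale η).toPresheafFiber_naturality_apply,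
    (Scheme.pointSmallEtale ζ.1).toPresheafFiber_naturality_apply, psi_germ]
  rfl

variable [IsSeparated f] [LocallyOfFiniteType f] [LocallyQuasiFinite f]

theorem psi_injective {F : EtCoh.Ab X}
    {a b : ToType ((Scheme.pointSmallEtale η).presheafFiber.obj (EtShriek.lowerShriekPre f F))}
    (h : ∀ ζ, psi f η ζ F a = psi f η ζ F b) : a = b :=
  sub_eq_zero.1 (psi_eq_zero f η _ fun ζ => by rw [map_sub, h ζ, sub_self])

/-- The summand of the stalk at a point of the fibre. -/
noncomputable def single (ζ : EtaleSplit.GPts f η) (F : EtCoh.Ab X) :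
    (Scheme.pointSmallEtale ζ.1).presheafFiber.obj F.obj ⟶
      (Scheme.pointSmallEtale η).presheafFiber.obj (EtShriek.lowerShriekPre f F) :=
  AddCommGrpCat.ofHom (AddMonoidHom.mk' (fun x => (exists_psi_single f η ζ x).choose) fun x y =>
    psi_injective f η fun ζ' => by
      by_cases h : ζ' = ζ
      · subst h
        rw [map_add, (exists_psi_single f η ζ' (x + y)).choose_spec.1, (exists_psi_single f η ζ' x).choose_spec.1,
          (exists_psi_single f η ζ' y).choose_spec.1]
      · rw [map_add, (exists_psi_single f η ζ (x + y)).choose_spec.2 _ h,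
          (exists_psi_single f η ζ x).choose_spec.2 _ h, (exists_psi_single f η ζ y).choose_spec.2 _ h, add_zero])

theorem psi_single_self (ζ : EtaleSplit.GPts f η) {F : EtCoh.Ab X} (x) :
    psi f η ζ F (single f η ζ F x) = x :=
  (exists_psi_single f η ζ x).choose_spec.1

theorem psi_single_ne (ζ ζ' : EtaleSplit.GPts f η) (h : ζ' ≠ ζ) {F : EtCoh.Ab X} (x) :
    psi f η ζ' F (single f η ζ F x) = 0 :=
  (exists_psi_single f η ζ x).choose_spec.2 _ h

theorem eq_sum_single {F : EtCoh.Ab X}
    (a : ToType ((Scheme.pointSmallEtale η).presheafFiber.obj (EtShriek.lowerShriekPre f F))) :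
    a = ∑ᶠ ζ, single f η ζ F (psi f η ζ F a) := by
  classical
  refine psi_injective f η fun ζ' => ?_
  have hfin : (Function.support fun ζ => single f η ζ F (psi f η ζ F a)).Finite :=
    (finite_psi_ne_zero f η a).subset fun ζ hζ h => hζ (by simp only [h]; exact map_zero _)
  rw [AddMonoidHom.map_finsum (psi f η ζ' F).hom hfin,
    finsum_eq_single _ ζ' fun ζ hζ => psi_single_ne f η ζ ζ' (Ne.symm hζ) _, psi_single_self]

/-- The stalks at the points of the fibre, as a functor. -/
noncomputable def fibreStalks : EtCoh.Ab X ⥤ Discrete (EtaleSplit.GPts f η) ⥤ AddCommGrpCat.{u + 1} :=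
  (Discrete.functor fun ζ : EtaleSplit.GPts f η => EtCoh.stalk ζ.1).flip

/-- The comparison of the direct sum over the fibre with the stalk. -/
noncomputable def sumToStalk (F : EtCoh.Ab X) :
    colimit ((fibreStalks f η).obj F) ⟶ (Scheme.pointSmallEtale η).presheafFiber.obj (EtShriek.lowerShriekPre f F) :=
  colimit.desc _ (Cocone.mk _ (Discrete.natTrans fun ζ => single f η ζ.as F))

theorem ι_sumToStalk (F : EtCoh.Ab X) (ζ : EtaleSplit.GPts f η) :
    colimit.ι ((fibreStalks f η).obj F) ⟨ζ⟩ ≫ sumToStalk f η F = single f η ζ F :=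
  colimit.ι_desc _ _

/-- The stalk maps to the direct sum over the fibre. -/
noncomputable def stalkToSum (F : EtCoh.Ab X) :
    (Scheme.pointSmallEtale η).presheafFiber.obj (EtShriek.lowerShriekPre f F) ⟶ colimit ((fibreStalks f η).obj F) :=
  AddCommGrpCat.ofHom (AddMonoidHom.mk'
    (fun a => ∑ᶠ ζ, colimit.ι ((fibreStalks f η).obj F) ⟨ζ⟩ (psi f η ζ F a)) fun a b => by
      simp only [map_add]
      exact finsum_add_distrib
        ((finite_psi_ne_zero f η a).subset fun ζ hζ h => hζ (by simp only [h]; exact map_zero _))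
        ((finite_psi_ne_zero f η b).subset fun ζ hζ h => hζ (by simp only [h]; exact map_zero _)))

theorem isIso_sumToStalk (F : EtCoh.Ab X) : IsIso (sumToStalk f η F) := by
  refine ⟨stalkToSum f η F, colimit.hom_ext fun ⟨ζ⟩ => ?_, ?_⟩
  · rw [← Category.assoc, ι_sumToStalk, Category.comp_id]
    ext x
    rw [ConcreteCategory.comp_apply]
    change ∑ᶠ ζ', colimit.ι ((fibreStalks f η).obj F) ⟨ζ'⟩ (psi f η ζ' F (single f η ζ F x)) = _
    rw [finsum_eq_single _ ζ fun ζ' h => by rw [psi_single_ne f η ζ ζ' h]; exact map_zero _, psi_single_self]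
  · ext a
    rw [ConcreteCategory.comp_apply, ConcreteCategory.id_apply]
    change sumToStalk f η F (∑ᶠ ζ, colimit.ι ((fibreStalks f η).obj F) ⟨ζ⟩ (psi f η ζ F a)) = a
    refine (AddMonoidHom.map_finsum (sumToStalk f η F).hom
      ((finite_psi_ne_zero f η a).subset fun ζ hζ h => hζ (by simp only [h]; exact map_zero _))).trans ?_
    refine Eq.trans (finsum_congr fun ζ => ?_) (eq_sum_single f η a).symm
    exact (ConcreteCategory.comp_apply _ _ _).symm.trans (by rw [ι_sumToStalk]; rfl)

/-- The stalk of the direct image with proper support is the direct sum over the fibre. -/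
noncomputable def stalkIso :
    EtShriek.lowerShriek f ⋙ EtCoh.stalk η ≅ fibreStalks f η ⋙ colim :=
  Functor.isoWhiskerLeft (EtShriek.lowerShriekPreFunctor f)
      ((Scheme.pointSmallEtale η).presheafToSheafCompSheafFiberIso AddCommGrpCat.{u + 1}) ≪≫
    (NatIso.ofComponents (fun F => @asIso _ _ _ _ (sumToStalk f η F) (isIso_sumToStalk f η F)) fun {F G} a => by
      refine colimit.hom_ext fun ⟨ζ⟩ => ?_
      rw [asIso_hom, asIso_hom, Functor.comp_map, colim_map, ι_colimMap_assoc, ι_sumToStalk, ← Category.assoc,
        ι_sumToStalk]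
      ext x
      refine psi_injective f η fun ζ' => ?_
      rw [ConcreteCategory.comp_apply, ConcreteCategory.comp_apply]
      refine Eq.trans ?_ (psi_naturality f η ζ' a _).symm
      by_cases h : ζ' = ζ
      · subst h
        erw [psi_single_self, psi_single_self]
        rfl
      · erw [psi_single_ne f η ζ ζ' h, psi_single_ne f η ζ ζ' h, map_zero]
        ).symm

instance (ζ : Spec (CommRingCat.of Ω) ⟶ X) : PreservesFiniteLimits (EtCoh.stalk ζ) :=
  inferInstanceAs (PreservesFiniteLimits (Scheme.pointSmallEtale ζ).sheafFiber)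

theorem preservesColimitsOfShape_stalk {J : Type (u + 1)} [Category.{u + 1} J] :
    PreservesColimitsOfShape J (EtShriek.lowerShriek f ⋙ EtCoh.stalk η) := by
  haveI : ∀ ζ : EtaleSplit.GPts f η, PreservesColimitsOfSize.{u + 1, u + 1} (EtCoh.stalk ζ.1) := fun ζ =>
    ((Scheme.pointSmallEtale ζ.1).skyscraperSheafAdjunction (A := AddCommGrpCat.{u + 1})).leftAdjoint_preservesColimits
  haveI : PreservesColimitsOfShape J (fibreStalks f η) :=
    preservesColimitsOfShape_of_evaluation _ _ fun ζ => by
      haveI : PreservesColimitsOfShape J (EtCoh.stalk ζ.as.1) := inferInstance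
      exact preservesColimitsOfShape_of_natIso (F := EtCoh.stalk ζ.as.1) (Iso.refl _)
  exact preservesColimitsOfShape_of_natIso (stalkIso f η).symm

theorem preservesLimitsOfShape_stalk {J : Type} [SmallCategory J] [FinCategory J] :
    PreservesLimitsOfShape J (EtShriek.lowerShriek f ⋙ EtCoh.stalk η) := by
  haveI : PreservesLimitsOfShape J (fibreStalks f η) :=
    preservesLimitsOfShape_of_evaluation _ _ fun ζ => by
      haveI : PreservesLimitsOfShape J (EtCoh.stalk ζ.as.1) := inferInstance
      exact preservesLimitsOfShape_of_natIso (F := EtCoh.stalk ζ.as.1) (Iso.refl _)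
  haveI : AB4OfSize.{u} AddCommGrpCat.{u + 1} := AB4.of_AB5 _
  haveI : HasExactColimitsOfShape (Discrete (EtaleSplit.GPts f η)) AddCommGrpCat.{u + 1} := AB4OfSize.ofShape _
  haveI : PreservesFiniteLimits (colim : (Discrete (EtaleSplit.GPts f η) ⥤ AddCommGrpCat.{u + 1}) ⥤ _) :=
    HasExactColimitsOfShape.preservesFiniteLimits
  haveI : PreservesLimitsOfShape J (fibreStalks f η ⋙ colim) := comp_preservesLimitsOfShape _ _
  exact preservesLimitsOfShape_of_natIso (stalkIso f η).symm

omit η in
/-- Direct image with proper support preserves colimits. -/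
theorem preservesColimitsOfSize : PreservesColimitsOfSize.{u + 1, u + 1} (EtShriek.lowerShriek f) := by
  refine ⟨fun {J} _ => ⟨fun {K} => ?_⟩⟩
  haveI : IsIso (colimit.post K (EtShriek.lowerShriek f)) := isIso_of_alg_ab _ fun y => by
    haveI := preservesColimitsOfShape_stalk f (geomPtAlg y) (J := J)
    haveI : PreservesColimitsOfSize.{u + 1, u + 1} (EtCoh.stalk (geomPtAlg y)) :=
      ((Scheme.pointSmallEtale (geomPtAlg y)).skyscraperSheafAdjunction (A := AddCommGrpCat.{u + 1})).leftAdjoint_preservesColimits
    haveI : IsIso ((EtCoh.stalk (geomPtAlg y)).map (colimit.post K (EtShriek.lowerShriek f))) :=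
      IsIso.of_isIso_fac_left (colimit.post_post K (EtShriek.lowerShriek f) (EtCoh.stalk (geomPtAlg y)))
    exact ConcreteCategory.bijective_of_isIso _
  exact preservesColimit_of_isIso_post (EtShriek.lowerShriek f) K

omit η in
/-- Direct image with proper support preserves finite limits. -/
theorem preservesFiniteLimits : PreservesFiniteLimits (EtShriek.lowerShriek f) := by
  refine ⟨fun J _ _ => ⟨fun {K} => ?_⟩⟩
  haveI : IsIso (limit.post K (EtShriek.lowerShriek f)) := isIso_of_alg_ab _ fun y => by
    haveI := preservesLimitsOfShape_stalk f (geomPtAlg y) (J := J)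
    haveI : IsIso ((EtCoh.stalk (geomPtAlg y)).map (limit.post K (EtShriek.lowerShriek f))) :=
      IsIso.of_isIso_fac_right (limit.post_post K (EtShriek.lowerShriek f) (EtCoh.stalk (geomPtAlg y)))
    exact ConcreteCategory.bijective_of_isIso _
  exact preservesLimit_of_isIso_post (EtShriek.lowerShriek f) K

end Groth.Agent.ShriekLib
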