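import Groth.Agent.ShriekLib.IsSheaf
import Groth.Agent.ShriekLib.Graph
/-!
Direct image with proper support through an open immersion followed by a proper morphism.
-/

set_option autoImplicit false
set_option backward.isDefEq.respectTransparency false
set_option backward.isDefEq.respectTransparency.types false

universe u

open CategoryTheory CategoryTheory.Limits AlgebraicGeometry Opposite

namespace Groth.Agent.ShriekLib

open EtPtsLib

variable {X Xb Y : Scheme.{u}} (j : X ⟶ Xb) [LocallyOfFiniteType j] (fb : Xb ⟶ Y) [IsProper fb]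

/-- The comparison of base changes. -/
noncomputable def bcCompIso : EtCoh.bc (j ≫ fb) ≅ EtCoh.bc fb ⋙ EtCoh.bc j :=
  MorphismProperty.Over.pullbackComp (P := EtCoh.etaleMP) (Q := ⊤) j fb

theorem bcCompIso_prV (V : Y.Etale) :
    ((bcCompIso j fb).hom.app V).left ≫ EtShriek.prV j ((EtCoh.bc fb).obj V) ≫ EtShriek.prV fb V =
      EtShriek.prV (j ≫ fb) V :=
  MorphismProperty.Over.pullbackComp_left_fst_fst (P := EtCoh.etaleMP) (Q := ⊤) j fb V

/-- Properness over a base and over a scheme proper over it agree. -/
theorem isProperOver_comp_iff {W S T : Scheme.{u}} (p : W ⟶ S) [LocallyOfFiniteType p] (q : S ⟶ T) [IsProper q]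
    (Z : Set W) : ClSub.IsProperOver (p ≫ q) Z ↔ ClSub.IsProperOver p Z := by
  constructor
  · intro h
    obtain ⟨M, i, hi, -, hr, hp⟩ := ClSubLib.exists_model _ h
    haveI := hi
    haveI : IsProper ((i ≫ p) ≫ q) := by rw [Category.assoc]; exact hp
    exact (ClSubLib.isProperOver_iff p i hr).2 (IsProper.of_comp (i ≫ p) q)
  · intro h
    obtain ⟨M, i, hi, -, hr, hp⟩ := ClSubLib.exists_model _ h
    haveI := hi
    haveI := hp
    refine (ClSubLib.isProperOver_iff (p ≫ q) i hr).2 ?_
    rw [← Category.assoc]
    infer_instance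

theorem mem_shriek_comp_iff (F : EtCoh.Ab X) (V : Y.Etale)
    (s : EtCoh.sect F ((EtCoh.bc j).obj ((EtCoh.bc fb).obj V))) :
    F.obj.map ((bcCompIso j fb).hom.app V).op s ∈ EtShriek.shriekSubgroup (j ≫ fb) F V ↔
      s ∈ EtShriek.shriekSubgroup j F ((EtCoh.bc fb).obj V) := by
  haveI := lft_prV j ((EtCoh.bc fb).obj V)
  haveI := lft_prV (j ≫ fb) V
  haveI : IsProper (EtShriek.prV fb V) :=
    MorphismProperty.of_isPullback (P := @IsProper) (IsPullback.of_hasPullback V.hom fb).flip ‹IsProper fb›
  let e := (bcCompIso j fb).app V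
  haveI : IsIso e.hom.left := by
    refine ⟨e.inv.left, ?_, ?_⟩
    · exact congrArg (fun m => m.left) e.hom_inv_id
    · exact congrArg (fun m => m.left) e.inv_hom_id
  rw [mem_shriekSubgroup_iff, mem_shriekSubgroup_iff, sectSupp_map, ← isProperOver_comp_iff (EtShriek.prV j _) (EtShriek.prV fb V)]
  refine ⟨fun h => ?_, fun h => ClSubLib.isProperOver_preimage _ _ e.hom.left (bcCompIso_prV j fb V) h⟩
  have h' := ClSubLib.isProperOver_preimage _ _ (inv e.hom.left)
    ((IsIso.inv_comp_eq _).2 (bcCompIso_prV j fb V).symm) h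
  rw [← Set.preimage_comp] at h'
  have e1 : (⇑((bcCompIso j fb).hom.app V).left ∘ ⇑(inv e.hom.left)) = id := funext fun x => by
    rw [Function.comp_apply, ← Scheme.Hom.comp_apply,
      show inv e.hom.left ≫ ((bcCompIso j fb).hom.app V).left = 𝟙 _ from IsIso.inv_hom_id e.hom.left]
    rfl
  rw [e1] at h'
  exact h'

/-- The component of the comparison. -/
noncomputable def shriekCompApp (F : EtCoh.Ab X) (V : Y.Etale) :
    (EtShriek.lowerShriekPre j F).obj (op ((EtCoh.bc fb).obj V)) ≅ (EtShriek.lowerShriekPre (j ≫ fb) F).obj (op V) :=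
  AddEquiv.toAddCommGrpIso
    { toFun := fun s => ⟨F.obj.map ((bcCompIso j fb).hom.app V).op s.1, (mem_shriek_comp_iff j fb F V s.1).2 s.2⟩
      invFun := fun t => ⟨F.obj.map ((bcCompIso j fb).inv.app V).op t.1, by
        refine (mem_shriek_comp_iff j fb F V _).1 ?_
        rw [← ConcreteCategory.comp_apply, ← Functor.map_comp, ← op_comp, Iso.hom_inv_id_app, op_id,
          CategoryTheory.Functor.map_id]
        exact t.2⟩
      left_inv := fun s => Subtype.ext (by
        simp only
        rw [← ConcreteCategory.comp_apply, ← Functor.map_comp, ← op_comp, Iso.inv_hom_id_app, op_id,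
          CategoryTheory.Functor.map_id]
        rfl)
      right_inv := fun t => Subtype.ext (by
        simp only
        rw [← ConcreteCategory.comp_apply, ← Functor.map_comp, ← op_comp, Iso.hom_inv_id_app, op_id,
          CategoryTheory.Functor.map_id]
        rfl)
      map_add' := fun s t => Subtype.ext (map_add _ _ _) }

/-- Sections with proper support along a composite. -/
noncomputable def shriekPreComp :
    EtShriek.lowerShriekPreFunctor j ⋙ (Functor.whiskeringLeft _ _ _).obj (EtCoh.bc fb).op ≅
      EtShriek.lowerShriekPreFunctor (j ≫ fb) :=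
  NatIso.ofComponents
    (fun F => NatIso.ofComponents (fun V => shriekCompApp j fb F V.unop) (by
      intro V W φ
      ext s
      refine Subtype.ext ?_
      change F.obj.map _ (F.obj.map _ s.1) = F.obj.map _ (F.obj.map _ s.1)
      rw [← ConcreteCategory.comp_apply, ← ConcreteCategory.comp_apply, ← Functor.map_comp, ← Functor.map_comp,
        ← op_comp, ← op_comp]
      exact congrArg (fun q => (F.obj.map (Quiver.Hom.op q)) s.1) ((bcCompIso j fb).hom.naturality φ.unop).symm))
    (by
      intro F G a
      ext V s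
      exact Subtype.ext (ConcreteCategory.congr_hom (a.hom.naturality ((bcCompIso j fb).hom.app V.unop).op) s.1).symm)

/-- Sheafification does nothing. -/
noncomputable def lowerShriekForgetIso {A B : Scheme.{u}} (f : A ⟶ B) [LocallyOfFiniteType f] :
    EtShriek.lowerShriekPreFunctor f ≅ EtShriek.lowerShriek f ⋙ sheafToPresheaf _ _ :=
  haveI : ∀ F, IsIso (CategoryTheory.toSheafify B.smallEtaleTopology ((EtShriek.lowerShriekPreFunctor f).obj F)) :=
    fun F => CategoryTheory.isIso_toSheafify _ (isSheaf_lowerShriekPre F f)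
  NatIso.ofComponents (fun F => asIso (CategoryTheory.toSheafify B.smallEtaleTopology ((EtShriek.lowerShriekPreFunctor f).obj F)))
    (fun {F G} a => CategoryTheory.toSheafify_naturality B.smallEtaleTopology ((EtShriek.lowerShriekPreFunctor f).map a))

/-- The direct image with proper support of a composite. -/
noncomputable def lowerShriekCompIso :
    EtShriek.lowerShriek j ⋙ EtCoh.push fb ≅ EtShriek.lowerShriek (j ≫ fb) :=
  ((fullyFaithfulSheafToPresheaf _ _).whiskeringRight _).preimageIso
    (show (EtShriek.lowerShriek j ⋙ EtCoh.push fb) ⋙ sheafToPresheaf _ _ ≅ EtShriek.lowerShriek (j ≫ fb) ⋙ sheafToPresheaf _ _ from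
      Functor.isoWhiskerRight (lowerShriekForgetIso j).symm ((Functor.whiskeringLeft _ _ _).obj (EtCoh.bc fb).op) ≪≫
        shriekPreComp j fb ≪≫ lowerShriekForgetIso (j ≫ fb))

end Groth.Agent.ShriekLib
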