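import Groth.Agent.EtPtsLib.GermEq
import Groth.Agent.ShriekLib.Basic
/-!
Excision for sections supported in a closed subset.
-/

set_option autoImplicit false
set_option backward.isDefEq.respectTransparency false
set_option backward.isDefEq.respectTransparency.types false

universe u

open CategoryTheory CategoryTheory.Limits AlgebraicGeometry Opposite

namespace Groth.Agent.ShriekLib

open EtPtsLib

variable {X : Scheme.{u}} (F : EtCoh.Ab X)

theorem germ_eq_zero_of {U : X.Etale} {Z : Set U.left} {s : EtCoh.sect F U}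
    (hs : EtShriek.sectSupp F U s ⊆ Z) {Ω : Type u} [Field Ω] [IsSepClosed Ω]
    (ξ : Spec (CommRingCat.of Ω) ⟶ X) (l : (Scheme.pointSmallEtale ξ).fiber.obj U)
    (h : liftHom ξ l default ∉ Z) : germ ξ F l s = 0 :=
  (germ_eq_zero_iff ξ F l s).2 fun hm => h (hs hm)

theorem eq_of_comp_eq {U U' : Scheme.{u}} (φ : U' ⟶ U) {Ω : Type u} [Field Ω]
    (m₁ m₂ : Spec (CommRingCat.of Ω) ⟶ U') (hp : m₁ default = m₂ default)
    (hres : Function.Bijective (φ.residueFieldMap (m₁ default))) (e : m₁ ≫ φ = m₂ ≫ φ) : m₁ = m₂ := by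
  obtain ⟨⟨a, α⟩, rfl⟩ := (Scheme.SpecToEquivOfField Ω U').symm.surjective m₁
  obtain ⟨⟨b, β⟩, rfl⟩ := (Scheme.SpecToEquivOfField Ω U').symm.surjective m₂
  obtain rfl : a = b := by simpa [Scheme.SpecToEquivOfField] using hp
  have ha : ((Scheme.SpecToEquivOfField Ω U').symm ⟨a, α⟩) default = a := by simp [Scheme.SpecToEquivOfField]
  rw [ha] at hres
  haveI : IsIso (φ.residueFieldMap a) := (ConcreteCategory.isIso_iff_bijective _).2 hres
  change (Spec.map α ≫ U'.fromSpecResidueField a) ≫ φ = (Spec.map β ≫ U'.fromSpecResidueField a) ≫ φ at e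
  simp only [Category.assoc, ← Scheme.Hom.SpecMap_residueFieldMap_fromSpecResidueField] at e
  simp only [← Category.assoc, ← Spec.map_comp, cancel_mono, Spec.map_inj, cancel_epi] at e
  rw [e]

theorem restrict_bijOn {U U' : X.Etale}
    (φ : U' ⟶ U) (Z : Set ↥U.left) (hZ : IsClosed Z)
    (hbij : Set.BijOn φ.left.base (φ.left.base ⁻¹' Z) Z)
    (hres : ∀ x ∈ φ.left.base ⁻¹' Z, Function.Bijective (φ.left.residueFieldMap x)) :
    Set.BijOn (F.obj.map φ.op) {s | EtShriek.sectSupp F U s ⊆ Z}
      {s' | EtShriek.sectSupp F U' s' ⊆ φ.left.base ⁻¹' Z} := by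
  refine ⟨fun s hs => ?_, fun s hs t ht hst => ?_, fun s' hs' => ?_⟩
  · show EtShriek.sectSupp F U' _ ⊆ _
    rw [sectSupp_map]
    exact Set.preimage_mono hs
  · refine sect_ext F U s t fun Ω _ _ ξ l => ?_
    by_cases hl : liftHom ξ l default ∈ Z
    · obtain ⟨x, -, hxe⟩ := hbij.surjOn hl
      obtain ⟨y, rfl⟩ := exists_fiber_map_eq ξ φ l x hxe
      rw [← germ_map, ← germ_map, hst]
    · rw [germ_eq_zero_of F hs ξ l hl, germ_eq_zero_of F ht ξ l hl]
  · let O : U.left.Opens := ⟨Zᶜ, hZ.isOpen_compl⟩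
    haveI : AlgebraicGeometry.Etale U.hom := U.prop
    haveI : AlgebraicGeometry.Etale (O.ι ≫ U.hom) := inferInstance
    let U₀ : X.Etale := Scheme.Etale.mk (O.ι ≫ U.hom)
    let ι₀ : U₀ ⟶ U := MorphismProperty.Over.homMk O.ι rfl
    let T : Bool → X.Etale := fun b => if b then U' else U₀
    let π : ∀ b, T b ⟶ U := fun b => match b with
      | true => φ
      | false => ι₀
    have hcov : Sieve.ofArrows T π ∈ X.smallEtaleTopology U := by
      rw [Scheme.ofArrows_mem_smallEtaleTopology_iff]
      refine Set.eq_univ_of_forall fun x => Set.mem_iUnion.2 ?_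
      by_cases hx : x ∈ Z
      · obtain ⟨x', -, e⟩ := hbij.surjOn hx
        exact ⟨true, x', e⟩
      · exact ⟨false, ⟨x, hx⟩, rfl⟩
    let x : ∀ b, EtCoh.sect F (T b) := fun b => match b with
      | true => s'
      | false => 0
    have hmiss : ∀ (P : X.Etale) (g : P ⟶ U₀) (g' : P ⟶ U'), g' ≫ φ = g ≫ ι₀ →
        F.obj.map g'.op s' = 0 := fun P g g' e => sect_ext F P _ _ fun Ω _ _ ξ l => by
      rw [germ_map]
      refine (germ_eq_zero_of F hs' ξ _ ?_).trans (map_zero _).symm
      rw [Set.mem_preimage, liftHom_map, ← Scheme.Hom.comp_apply, Category.assoc]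
      have e' : g'.left ≫ φ.left = g.left ≫ O.ι := congrArg (fun q => q.left) e
      rw [e']
      simp only [Scheme.Hom.comp_apply]
      exact (g.left (liftHom ξ l default)).2
    have hx : Presieve.Arrows.Compatible (F.obj ⋙ forget AddCommGrpCat.{u + 1}) π x := by
      rintro ⟨⟩ ⟨⟩ P gi gj e
      · exact (map_zero (F.obj.map gi.op).hom).trans (map_zero (F.obj.map gj.op).hom).symm
      · exact (map_zero (F.obj.map gi.op).hom).trans (hmiss P gi gj e.symm).symm
      · exact (hmiss P gj gi e).trans (map_zero (F.obj.map gj.op).hom).symm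
      · refine sect_ext F P _ _ fun Ω _ _ ξ l => ?_
        show germ ξ F l (F.obj.map gi.op s') = germ ξ F l (F.obj.map gj.op s')
        rw [germ_map, germ_map]
        have e' : gi.left ≫ φ.left = gj.left ≫ φ.left := congrArg (fun q => q.left) e
        let m₁ := liftHom ξ ((Scheme.pointSmallEtale ξ).fiber.map gi l)
        let m₂ := liftHom ξ ((Scheme.pointSmallEtale ξ).fiber.map gj l)
        have em : m₁ ≫ φ.left = m₂ ≫ φ.left := by
          simp only [m₁, m₂, liftHom_map, Category.assoc, e']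
        have emp : φ.left (m₁ default) = φ.left (m₂ default) :=
          (Scheme.Hom.comp_apply m₁ φ.left default).symm.trans
            ((congrArg (fun q => q default) em).trans (Scheme.Hom.comp_apply m₂ φ.left default))
        by_cases hz : φ.left (m₁ default) ∈ Z
        · have hp : m₁ default = m₂ default := hbij.injOn hz (show φ.left (m₂ default) ∈ Z from emp ▸ hz) emp
          congr 1
          exact Over.OverMorphism.ext (eq_of_comp_eq φ.left m₁ m₂ hp (hres _ hz) em)
        · exact (germ_eq_zero_of F hs' ξ _ hz).trans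
            (germ_eq_zero_of F hs' ξ _ (fun h => hz (emp.symm ▸ (show φ.left (m₂ default) ∈ Z from h)))).symm
    have hsh := ((isSheaf_iff_isSheaf_of_type _ _).1
      ((sheafCompose X.smallEtaleTopology (forget AddCommGrpCat.{u + 1})).obj F).property) _ hcov
    rw [Sieve.ofArrows, ← Presieve.isSheafFor_iff_generate, Presieve.isSheafFor_arrows_iff] at hsh
    obtain ⟨t, ht, -⟩ := hsh x hx
    refine ⟨t, fun y hy => ?_, ht true⟩
    obtain ⟨l, hl⟩ := exists_lift_geomPt y
    rw [← hl, mem_sectSupp_iff] at hy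
    by_contra hyZ
    obtain ⟨z, hz⟩ := exists_fiber_map_eq (geomPt (U.hom y)) ι₀ l ⟨y, hyZ⟩ hl.symm
    refine hy ?_
    rw [← hz, ← germ_map]
    exact (congrArg (germ _ F z) (ht false)).trans (map_zero _)

end Groth.Agent.ShriekLib
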