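import Groth.Agent.ShriekLib.Basic
import Groth.Agent.EtPtsLib.Criteria
import Groth.Agent.EtPtsLib.GermEq
import Groth.Agent.EtPtsLib.IntegralBC
/-!
Stalks of the presheaf of sections with proper support along separated locally quasi-finite morphisms.
-/

set_option autoImplicit false
set_option backward.isDefEq.respectTransparency false
set_option backward.isDefEq.respectTransparency.types false

universe u

open CategoryTheory CategoryTheory.Limits AlgebraicGeometry Opposite

namespace Groth.Agent.ShriekLib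

open EtPtsLib

variable {X Y : Scheme.{u}} (f : X ⟶ Y) {Ω : Type u} [Field Ω] [IsAlgClosed Ω]
  (η : Spec (CommRingCat.of Ω) ⟶ Y)

theorem pt_eq {Z : Scheme.{u}} (q : Spec (CommRingCat.of Ω) ⟶ Z) : EtaleSplit.pt q = q default :=
  congrArg _ (Subsingleton.elim (α := ↥(Spec (CommRingCat.of Ω))) _ _)

/-- The component of a stalk of sections with proper support at a point of the fibre. -/
noncomputable def psi (ζ : EtaleSplit.GPts f η) (F : EtCoh.Ab X) :
    (Scheme.pointSmallEtale η).presheafFiber.obj (EtShriek.lowerShriekPre f F) ⟶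
      (Scheme.pointSmallEtale ζ.1).presheafFiber.obj F.obj :=
  (Scheme.pointSmallEtale η).presheafFiber.map (EtShriek.lowerShriekPreι f F) ≫ pushStalkAt f η ζ F.obj

theorem psi_germ (ζ : EtaleSplit.GPts f η) (F : EtCoh.Ab X) (V : Y.Etale)
    (l : (Scheme.pointSmallEtale η).fiber.obj V) (s : EtShriek.shriekSubgroup f F V) :
    psi f η ζ F ((Scheme.pointSmallEtale η).toPresheafFiber V l (EtShriek.lowerShriekPre f F) s) =
      (Scheme.pointSmallEtale ζ.1).toPresheafFiber _ (liftBcAt f η ζ V l) F.obj s.1 := by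
  have h : (Scheme.pointSmallEtale η).toPresheafFiber V l (EtShriek.lowerShriekPre f F) ≫ psi f η ζ F =
      (EtShriek.lowerShriekPreι f F).app (op V) ≫
        (Scheme.pointSmallEtale ζ.1).toPresheafFiber _ (liftBcAt f η ζ V l) F.obj := by
    rw [psi, GrothendieckTopology.Point.toPresheafFiber_naturality_assoc]
    exact congrArg (_ ≫ ·) (toPresheafFiber_pushStalkAt f η ζ F.obj V l)
  rw [← ConcreteCategory.comp_apply, h, ConcreteCategory.comp_apply]
  rfl

variable [IsSeparated f] [LocallyOfFiniteType f] [LocallyQuasiFinite f]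

omit [IsAlgClosed Ω] in
theorem lqf_prV (V : Y.Etale) : LocallyQuasiFinite (EtShriek.prV f V) :=
  MorphismProperty.of_isPullback (IsPullback.of_hasPullback V.hom f).flip ‹LocallyQuasiFinite f›

omit [IsAlgClosed Ω] in
theorem isSeparated_prV (V : Y.Etale) : IsSeparated (EtShriek.prV f V) :=
  MorphismProperty.of_isPullback (IsPullback.of_hasPullback V.hom f).flip ‹IsSeparated f›

theorem psi_eq_zero {F : EtCoh.Ab X}
    (a : ToType ((Scheme.pointSmallEtale η).presheafFiber.obj (EtShriek.lowerShriekPre f F)))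
    (h : ∀ ζ, psi f η ζ F a = 0) : a = 0 := by
  obtain ⟨V, l, s, rfl⟩ := (Scheme.pointSmallEtale η).toPresheafFiber_jointly_surjective a
  haveI := lqf_prV f V
  haveI := lft_prV f V
  have hp := (mem_shriekSubgroup_iff F f V s.1).1 s.2
  obtain ⟨T, i, hi, -, hr, hip⟩ := ClSubLib.exists_model _ hp
  haveI := hi
  haveI := hip
  let S := EtShriek.sectSupp F ((EtCoh.bc f).obj V) s.1
  let O : V.left.Opens := ⟨(EtShriek.prV f V '' S)ᶜ, by
    rw [show EtShriek.prV f V '' S = Set.range (i ≫ EtShriek.prV f V) by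
      rw [show S = Set.range i from hr.symm, ← Set.range_comp]; rfl]
    exact (i ≫ EtShriek.prV f V).isClosedMap.isClosed_range.isOpen_compl⟩
  have hl : liftHom η l default ∈ O := by
    rintro ⟨z, hz, hzl⟩
    obtain ⟨p, hp'⟩ := EtaleSplit.exists_gpt (EtShriek.prV f V) (liftHom η l) z (hzl.trans (pt_eq _).symm)
    have hc : (p.1 ≫ ((EtCoh.bc f).obj V).hom) ≫ f = η := by
      rw [Category.assoc]
      change p.1 ≫ pullback.snd V.hom f ≫ f = η
      rw [← pullback.condition, ← Category.assoc]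
      exact (congrArg (· ≫ V.hom) p.2).trans (liftHom_comp η l)
    let ζ : EtaleSplit.GPts f η := ⟨p.1 ≫ ((EtCoh.bc f).obj V).hom, hc⟩
    have e : liftHom ζ.1 (liftBcAt f η ζ V l) = p.1 :=
      pullback.hom_ext ((liftHom_liftBcAt_fst f η ζ V l).trans p.2.symm) (pullback.lift_snd _ _ _)
    have hζ := h ζ
    rw [psi_germ] at hζ
    refine (mem_sectSupp_iff F ζ.1 (liftBcAt f η ζ V l) s.1).1 ?_ hζ
    rw [e]
    rw [← pt_eq, hp']
    exact hz
  obtain ⟨lO, hlO⟩ := exists_fiber_map_eq η (openIncl V O) l (⟨_, hl⟩ : O.toScheme) rfl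
  rw [← hlO, ← (Scheme.pointSmallEtale η).toPresheafFiber_w_apply (openIncl V O) lO]
  refine (congrArg ((Scheme.pointSmallEtale η).toPresheafFiber _ lO (EtShriek.lowerShriekPre f F))
    (Subtype.ext ?_)).trans (map_zero _)
  change F.obj.map ((EtCoh.bc f).map (openIncl V O)).op s.1 = 0
  refine sect_ext F _ _ _ fun Ω' _ _ ξ' y => ?_
  rw [show germ ξ' F y 0 = 0 from map_zero _, germ_eq_zero_iff, sectSupp_map]
  intro hy
  have e : bcFst f V (((EtCoh.bc f).map (openIncl V O)).left (liftHom ξ' y default)) =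
      O.ι (bcFst f (openSub V O) (liftHom ξ' y default)) :=
    congrArg (fun m => m (liftHom ξ' y default)) (bcFst_map f (openIncl V O))
  exact (bcFst f (openSub V O) (liftHom ξ' y default) : O.toScheme).2 ⟨_, hy, e⟩

theorem finite_psi_ne_zero {F : EtCoh.Ab X}
    (a : ToType ((Scheme.pointSmallEtale η).presheafFiber.obj (EtShriek.lowerShriekPre f F))) :
    {ζ | psi f η ζ F a ≠ 0}.Finite := by
  obtain ⟨V, l, s, rfl⟩ := (Scheme.pointSmallEtale η).toPresheafFiber_jointly_surjective a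
  haveI := lqf_prV f V
  haveI := lft_prV f V
  obtain ⟨T, i, hi, -, hr, hip⟩ := ClSubLib.exists_model _ ((mem_shriekSubgroup_iff F f V s.1).1 s.2)
  haveI := hi
  haveI := hip
  let S := EtShriek.sectSupp F ((EtCoh.bc f).obj V) s.1
  have hfib : {x | x ∈ S ∧ EtShriek.prV f V x = EtaleSplit.pt (liftHom η l)}.Finite := by
    refine (((i ≫ EtShriek.prV f V).finite_preimage_singleton (EtaleSplit.pt (liftHom η l))).image i).subset ?_
    rintro x ⟨hx, hxl⟩
    obtain ⟨t, rfl⟩ : x ∈ Set.range i := hr ▸ hx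
    exact ⟨t, hxl, rfl⟩
  let m : EtaleSplit.GPts f η → EtaleSplit.GPts (EtShriek.prV f V) (liftHom η l) := fun ζ =>
    ⟨liftHom ζ.1 (liftBcAt f η ζ V l), liftHom_liftBcAt_fst f η ζ V l⟩
  have hm : Function.Injective m := fun ζ ζ' e => by
    have e' := congrArg (fun p => p.1 ≫ ((EtCoh.bc f).obj V).hom) e
    exact Subtype.ext ((liftHom_comp ζ.1 _).symm.trans (e'.trans (liftHom_comp ζ'.1 _)))
  refine ((EtaleSplit.finite_gpts_over (EtShriek.prV f V) (liftHom η l) S hfib).preimage hm.injOn).subset ?_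
  intro ζ hζ
  rw [Set.mem_setOf_eq, psi_germ] at hζ
  show EtaleSplit.pt (m ζ).1 ∈ S
  rw [pt_eq]
  exact (mem_sectSupp_iff F ζ.1 _ s.1).2 hζ

theorem exists_psi_single {F : EtCoh.Ab X} (ζ : EtaleSplit.GPts f η)
    (x : ToType ((Scheme.pointSmallEtale ζ.1).presheafFiber.obj F.obj)) :
    ∃ a, psi f η ζ F a = x ∧ ∀ ζ', ζ' ≠ ζ → psi f η ζ' F a = 0 := by
  classical
  obtain ⟨U₀, y, t, rfl⟩ := (Scheme.pointSmallEtale ζ.1).toPresheafFiber_jointly_surjective x
  obtain ⟨V₁, W₁, hW₁, h₁, z, hz⟩ := propA_apply f (propA_of_lqf f) U₀ (liftHom ζ.1 y default)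
  obtain ⟨y₁, hy₁⟩ := exists_fiber_map_eq ζ.1 h₁ y z hz
  have hyW : liftHom ζ.1 y₁ ≫ W₁.ι ≫ ((EtCoh.bc f).obj V₁).hom = ζ.1 := liftHom_comp ζ.1 y₁
  let l₁ : (Scheme.pointSmallEtale η).fiber.obj V₁ := Over.homMk (liftHom ζ.1 y₁ ≫ W₁.ι ≫ bcFst f V₁) (by
    change (liftHom ζ.1 y₁ ≫ W₁.ι ≫ bcFst f V₁) ≫ V₁.hom = η
    simp only [Category.assoc, bcFst, pullback.condition]
    rw [← Category.assoc W₁.ι, ← Category.assoc]
    exact (congrArg (· ≫ f) hyW).trans ζ.2)
  have hy₁l : (Scheme.pointSmallEtale ζ.1).fiber.map (openIncl _ W₁) y₁ = liftBcAt f η ζ V₁ l₁ := by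
    refine fiber_bc_ext f ζ.1 ?_
    rw [liftHom_liftBcAt_fst, liftHom_map, Category.assoc]
    rfl
  have hmem : EtaleSplit.pt (liftHom ζ.1 (liftBcAt f η ζ V₁ l₁)) ∈ W₁ := by
    rw [← hy₁l, pt_eq]
    change (liftHom ζ.1 y₁ ≫ W₁.ι) default ∈ W₁
    rw [Scheme.Hom.comp_apply]
    exact Subtype.coe_prop _
  haveI := lqf_prV f V₁
  haveI := lft_prV f V₁
  haveI := isSeparated_prV f V₁
  obtain ⟨T, gT, qT, hqT, D, hgT, hD⟩ := EtaleSplit.exists_split (EtShriek.prV f V₁) (liftHom η l₁)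
    (ι := PUnit.{1}) (fun _ => ⟨liftHom ζ.1 (liftBcAt f η ζ V₁ l₁), liftHom_liftBcAt_fst f η ζ V₁ l₁⟩)
    (fun _ => W₁) (fun _ => hmem) (fun _ => (EtShriek.prV f V₁).quasiFiniteAt _)
  haveI := hgT
  obtain ⟨hfin, hDle, hDmem, huniq⟩ := hD PUnit.unit
  haveI : AlgebraicGeometry.Etale V₁.hom := V₁.prop
  let V : Y.Etale := Scheme.Etale.mk (gT ≫ V₁.hom)
  let k : V ⟶ V₁ := MorphismProperty.Over.homMk gT rfl
  let l : (Scheme.pointSmallEtale η).fiber.obj V := Over.homMk qT (by
    change qT ≫ gT ≫ V₁.hom = η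
    rw [← Category.assoc, hqT]
    exact liftHom_comp η l₁)
  have hkl : (Scheme.pointSmallEtale η).fiber.map k l = l₁ := Over.OverMorphism.ext hqT
  have sq : IsPullback ((EtCoh.bc f).map k).left (EtShriek.prV f V) (EtShriek.prV f V₁) gT :=
    EtCoh.isPullback_bc_map f k
  let e := sq.isoPullback
  let D' : ((EtCoh.bc f).obj V).left.Opens := e.hom ⁻¹ᵁ D PUnit.unit
  haveI hD'fin : IsFinite (D'.ι ≫ EtShriek.prV f V) := by
    haveI := hfin
    have h : D'.ι ≫ EtShriek.prV f V = (e.hom ∣_ D PUnit.unit) ≫ (D PUnit.unit).ι ≫ pullback.snd _ gT := by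
      rw [← sq.isoPullback_hom_snd, ← Category.assoc, ← Category.assoc, morphismRestrict_ι]
    rw [h]; infer_instance
  haveI := isSeparated_prV f V
  haveI := lft_prV f V
  haveI : IsFinite D'.ι := IsFinite.of_comp _ (EtShriek.prV f V)
  have hD'cl : IsClosed (D' : Set ((EtCoh.bc f).obj V).left) := by
    simpa [Scheme.Opens.range_ι] using D'.ι.isClosedMap.isClosed_range
  let c : openSub _ D' ⟶ openSub _ W₁ := MorphismProperty.Over.homMk
    (IsOpenImmersion.lift W₁.ι (D'.ι ≫ ((EtCoh.bc f).map k).left) (by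
      rintro _ ⟨v, rfl⟩
      refine ⟨⟨_, hDle v.2⟩, ?_⟩
      change pullback.fst (EtShriek.prV f V₁) gT (e.hom (D'.ι v)) = _
      rw [← Scheme.Hom.comp_apply, sq.isoPullback_hom_fst, ← Scheme.Hom.comp_apply]
      rfl)) (by
    change _ ≫ W₁.ι ≫ _ = _
    rw [IsOpenImmersion.lift_fac_assoc, Category.assoc, MorphismProperty.Over.w ((EtCoh.bc f).map k)]
    rfl)
  have hc : c ≫ openIncl _ W₁ = openIncl _ D' ≫ (EtCoh.bc f).map k :=
    MorphismProperty.Over.Hom.ext (IsOpenImmersion.lift_fac _ _ _)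
  let B := (EtCoh.bc f).obj V
  let parts : Bool → B.left.Opens := fun b => cond b D' ⟨(D' : Set B.left)ᶜ, hD'cl.isOpen_compl⟩
  obtain ⟨s, hs⟩ := exists_glue (⟨F.obj ⋙ forget AddCommGrpCat.{u + 1},
      ((sheafCompose X.smallEtaleTopology (forget AddCommGrpCat.{u + 1})).obj F).2⟩ : Sheaf _ (Type (u + 1))) B parts
    (fun a b hab => by
      rw [← TopologicalSpace.Opens.coe_disjoint]
      cases a <;> cases b <;> first | exact absurd rfl hab | exact disjoint_compl_left | exact disjoint_compl_right)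
    (fun x => by
      by_cases hx : x ∈ D'
      · exact ⟨true, hx⟩
      · exact ⟨false, hx⟩)
    (fun b => match b with
      | true => F.obj.map (c ≫ h₁).op t
      | false => (0 : EtCoh.sect F (openSub B (parts false))))
  have hs1 : F.obj.map (openIncl B D').op s = F.obj.map (c ≫ h₁).op t := hs true
  have hs0 : F.obj.map (openIncl B (parts false)).op s = 0 := hs false
  have hsupp : EtShriek.sectSupp F B s ⊆ (D' : Set B.left) := by
    intro b hb
    by_contra hn
    exact hb _ (openIncl B (parts false)) ⟨(⟨b, hn⟩ : (parts false).toScheme), rfl⟩ hs0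
  have hprop : ClSub.IsProperOver (EtShriek.prV f V) (D' : Set B.left) := by
    haveI : IsClosedImmersion D'.ι := .of_isPreimmersion _ (D'.ι.isClosedMap.isClosed_range)
    exact (ClSubLib.isProperOver_iff _ D'.ι (Scheme.Opens.range_ι D')).2 inferInstance
  have hsmem : s ∈ EtShriek.shriekSubgroup f F V :=
    (mem_shriekSubgroup_iff F f V s).2 (ClSubLib.isProperOver_subset _ hprop (isClosed_sectSupp F B s) hsupp)
  refine ⟨(Scheme.pointSmallEtale η).toPresheafFiber V l (EtShriek.lowerShriekPre f F) ⟨s, hsmem⟩, ?_, fun ζ' hζ' => ?_⟩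
  · rw [psi_germ]
    change (Scheme.pointSmallEtale ζ.1).toPresheafFiber B (liftBcAt f η ζ V l) F.obj s = _
    have hmem' : liftHom ζ.1 (liftBcAt f η ζ V l) default ∈ D' := by
      rw [← pt_eq]
      change e.hom (EtaleSplit.pt (liftHom ζ.1 (liftBcAt f η ζ V l))) ∈ D PUnit.unit
      rw [← EtaleSplit.pt_comp]
      convert hDmem using 3
      refine pullback.hom_ext ?_ ?_
      · rw [Category.assoc, sq.isoPullback_hom_fst, pullback.lift_fst, ← liftHom_map, liftBcAt_map, hkl]
      · rw [Category.assoc, sq.isoPullback_hom_snd, pullback.lift_snd]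
        exact liftHom_liftBcAt_fst f η ζ V l
    obtain ⟨w, hw⟩ := exists_fiber_map_eq ζ.1 (openIncl B D') (liftBcAt f η ζ V l) (⟨_, hmem'⟩ : D'.toScheme) rfl
    rw [← hw, ← (Scheme.pointSmallEtale ζ.1).toPresheafFiber_w_apply (openIncl B D') w F.obj s, hs1,
      (Scheme.pointSmallEtale ζ.1).toPresheafFiber_w_apply (c ≫ h₁) w F.obj t, Functor.map_comp,
      ConcreteCategory.comp_apply]
    have hcw : (Scheme.pointSmallEtale ζ.1).fiber.map c w = y₁ := by
      haveI : Mono (openIncl ((EtCoh.bc f).obj V₁) W₁).left := inferInstanceAs (Mono W₁.ι)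
      refine fiber_map_injective ζ.1 (openIncl _ W₁) ?_
      rw [← ConcreteCategory.comp_apply, ← Functor.map_comp, hc, Functor.map_comp, ConcreteCategory.comp_apply,
        hw, liftBcAt_map, hkl, hy₁l]
    rw [hcw, hy₁]
  · rw [psi_germ]
    refine (germ_eq_zero_iff ζ'.1 F (liftBcAt f η ζ' V l) s).2 fun hn => hζ' ?_
    have hp : EtaleSplit.pt (liftHom ζ'.1 (liftBcAt f η ζ' V l) ≫ e.hom) ∈ D PUnit.unit := by
      rw [EtaleSplit.pt_comp, pt_eq]; exact hsupp hn
    have hr := huniq ⟨liftHom ζ'.1 (liftBcAt f η ζ' V l) ≫ e.hom, by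
      rw [Category.assoc, sq.isoPullback_hom_snd]
      exact liftHom_liftBcAt_fst f η ζ' V l⟩ hp
    have hr' := congrArg (fun m => m ≫ pullback.fst (EtShriek.prV f V₁) gT) hr
    simp only [Category.assoc, pullback.lift_fst] at hr'
    erw [sq.isoPullback_hom_fst] at hr'
    rw [← liftHom_map, liftBcAt_map, hkl] at hr'
    have hr'' := congrArg (fun m => m ≫ ((EtCoh.bc f).obj V₁).hom) hr'
    exact Subtype.ext ((liftHom_comp ζ'.1 _).symm.trans (hr''.trans (liftHom_comp ζ.1 _)))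

end Groth.Agent.ShriekLib
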